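import Cfsg.Agent.Lib.Lie.OstromWagner.Perspectivity

/-!
# Involutions: perspectivities and Baer subplanes

An involution either fixes a quadrangle, and then its fixed plane has order `√n`, or has an axis. Hence the fixed
plane of a `2`-group fixing a quadrangle has order a `2^i`-th root of `n`.
-/

set_option autoImplicit false

namespace Cfsg.Agent.Lie.OW

open Configuration MulAction

universe u v w

variable {G : Type w} [Group G] {P : Type u} {L : Type v} [Membership P L]

variable (L) in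
/-- `F` contains four points, no three collinear. -/
def Quad (F : P → Prop) : Prop :=
  ∃ a b c d : P, F a ∧ F b ∧ F c ∧ F d ∧ a ≠ b ∧ c ≠ d ∧ (∀ l : L, a ∈ l → b ∈ l → c ∉ l ∧ d ∉ l) ∧
    ∀ l : L, c ∈ l → d ∈ l → a ∉ l ∧ b ∉ l

theorem Quad.mono {F F' : P → Prop} (h : Quad L F) (hF : ∀ p, F p → F' p) : Quad L F' := by
  obtain ⟨a, b, c, d, ha, hb, hc, hd, h⟩ := h
  exact ⟨a, b, c, d, hF a ha, hF b hb, hF c hc, hF d hd, h⟩

/-- Fixed by all of `W`. -/
def Fixd [MulAction G P] (W : Subgroup G) (p : P) : Prop := ∀ w ∈ W, w • p = p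

variable [MulAction G P] [MulAction G L]

/-- The points fixed by `W`. -/
abbrev FP (P : Type u) [MulAction G P] (W : Subgroup G) : Type u := {p : P // Fixd W p}

instance subMembership (W : Subgroup G) : Membership (FP P W) (FP L W) := ⟨fun l p => p.1 ∈ l.1⟩

theorem fp_mem_iff {W : Subgroup G} {p : FP P W} {l : FP L W} : p ∈ l ↔ p.1 ∈ l.1 := Iff.rfl

variable [Acts G P L] [ProjectivePlane P L]

theorem fixd_line {W : Subgroup G} {a b : P} (h : a ≠ b) (ha : Fixd W a) (hb : Fixd W b) {l : L}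
    (h1 : a ∈ l) (h2 : b ∈ l) : Fixd W l :=
  fun w hw => fix_line h (ha w hw) (hb w hw) h1 h2

theorem fixd_point {W : Subgroup G} {l m : L} (h : l ≠ m) (hl : Fixd W l) (hm : Fixd W m) {a : P}
    (h1 : a ∈ l) (h2 : a ∈ m) : Fixd W a :=
  fun w hw => fix_point h (hl w hw) (hm w hw) h1 h2

/-- Being fixed by a group with a subgroup of index two. -/
theorem fixd_iff {X : Type*} [MulAction G X] {W : Subgroup G} (W₀ : Subgroup W) (hidx : W₀.index = 2)
    {w : W} (hw : w ∉ W₀) (x : X) :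
    Fixd W x ↔ Fixd (W₀.map W.subtype) x ∧ (w : G) • x = x := by
  refine ⟨fun h => ⟨fun a ha => h a (Subgroup.map_subtype_le _ ha), h w w.2⟩, fun ⟨h, h'⟩ a ha => ?_⟩
  by_cases haW : (⟨a, ha⟩ : W) ∈ W₀
  · exact h a ⟨⟨a, ha⟩, haW, rfl⟩
  · have : (w⁻¹ * ⟨a, ha⟩ : W) ∈ W₀ := (Subgroup.mul_mem_iff_of_index_two hidx).2
      (iff_of_false (fun h => hw (by simpa using inv_mem h)) haW)
    have h'' := h _ ⟨_, this, rfl⟩
    simp only [Subgroup.coe_subtype, Subgroup.coe_mul, Subgroup.coe_inv, mul_smul, inv_smul_eq_iff] at h''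
    rw [h'', h']

/-- The fixed plane. -/
@[instance_reducible]
noncomputable def subPlane {W : Subgroup G} (hq : Quad L (Fixd W : P → Prop)) :
    ProjectivePlane (FP P W) (FP L W) where
  exists_point l := by
    obtain ⟨a, b, c, d, ha, hb, hc, hd, hab, hcd, h1, -⟩ := hq
    by_cases ha' : a ∈ l.1
    · by_cases hb' : b ∈ l.1
      · exact ⟨⟨c, hc⟩, (h1 l.1 ha' hb').1⟩
      · exact ⟨⟨b, hb⟩, hb'⟩
    · exact ⟨⟨a, ha⟩, ha'⟩
  exists_line p := by
    obtain ⟨a, b, c, d, ha, hb, hc, hd, hab, hcd, h1, h2⟩ := hq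
    have hac : a ≠ c := fun h => by
      obtain ⟨l, hl1, hl2⟩ := exists_line (L := L) hab
      exact (h1 l hl1 hl2).1 (h ▸ hl1)
    obtain ⟨l, hl1, hl2⟩ := exists_line (L := L) hab
    by_cases hp : p.1 ∈ l
    · obtain ⟨m, hm1, hm2⟩ := exists_line (L := L) hcd
      by_cases hp' : p.1 ∈ m
      · obtain ⟨j, hj1, hj2⟩ := exists_line (L := L) hac
        refine ⟨⟨j, fixd_line hac ha hc hj1 hj2⟩, fun hpj => ?_⟩
        change p.1 ∈ j at hpj
        have hjl : j ≠ l := ne_of_not_mem hj2 (h1 l hl1 hl2).1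
        exact (h2 m hm1 hm2).1 (point_eq hjl hpj hj1 hp hl1 ▸ hp')
      · exact ⟨⟨m, fixd_line hcd hc hd hm1 hm2⟩, hp'⟩
    · exact ⟨⟨l, fixd_line hab ha hb hl1 hl2⟩, hp⟩
  eq_or_eq {p₁ p₂ l₁ l₂} h1 h2 h3 h4 :=
    (Nondegenerate.eq_or_eq (p₁ := p₁.1) (p₂ := p₂.1) h1 h2 h3 h4).imp Subtype.ext Subtype.ext
  mkPoint {l₁ l₂} h := ⟨HasPoints.mkPoint (P := P) (fun e => h (Subtype.ext e)),
    fixd_point (fun e => h (Subtype.ext e)) l₁.2 l₂.2 (HasPoints.mkPoint_ax _).1 (HasPoints.mkPoint_ax _).2⟩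
  mkPoint_ax {_ _} _ := HasPoints.mkPoint_ax _
  mkLine {p₁ p₂} h := ⟨HasLines.mkLine (L := L) (fun e => h (Subtype.ext e)),
    fixd_line (fun e => h (Subtype.ext e)) p₁.2 p₂.2 (HasLines.mkLine_ax _).1 (HasLines.mkLine_ax _).2⟩
  mkLine_ax {_ _} _ := HasLines.mkLine_ax _
  exists_config := by
    obtain ⟨a, b, c, d, ha, hb, hc, hd, hab, hcd, h1, h2⟩ := hq
    obtain ⟨l, hl1, hl2⟩ := exists_line (L := L) hab
    have hac : a ≠ c := pt_ne hl1 (h1 l hl1 hl2).1 
    obtain ⟨m, hm1, hm2⟩ := exists_line (L := L) hcd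
    obtain ⟨j, hj1, hj2⟩ := exists_line (L := L) hac
    have hjm : j ≠ m := ne_of_not_mem hj1 (h2 m hm1 hm2).1
    have hjl : j ≠ l := ne_of_not_mem hj2 (h1 l hl1 hl2).1
    refine ⟨⟨d, hd⟩, ⟨a, ha⟩, ⟨b, hb⟩, ⟨m, fixd_line hcd hc hd hm1 hm2⟩, ⟨l, fixd_line hab ha hb hl1 hl2⟩,
      ⟨j, fixd_line hac ha hc hj1 hj2⟩, (h1 l hl1 hl2).2, ?_, (h2 m hm1 hm2).1, hl1, hj1,
      (h2 m hm1 hm2).2, hl2, fun hbj => hab (point_eq hjl hj1 hbj hl1 hl2)⟩
    exact fun hdj => hcd (point_eq hjm hj2 hdj hm1 hm2)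

/-- The normalizer of `W` acts on the fixed plane. -/
instance nmAction {X : Type*} [MulAction G X] (W : Subgroup G) :
    MulAction (Subgroup.normalizer (W : Set G)) (FP X W) where
  smul g p := ⟨(g : G) • p.1, fun w hw => by
    have := p.2 _ ((Subgroup.mem_normalizer_iff''.1 g.2 w).1 hw)
    rw [mul_smul, mul_smul, inv_smul_eq_iff] at this
    exact this⟩
  one_smul p := Subtype.ext (one_smul G p.1)
  mul_smul g h p := Subtype.ext (mul_smul (g : G) (h : G) p.1)

omit [MulAction G L] [Acts G P L] [ProjectivePlane P L] [Membership P L] in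
theorem nm_coe {W : Subgroup G} (g : Subgroup.normalizer (W : Set G)) (p : FP P W) :
    (g • p).1 = (g : G) • p.1 := rfl

instance nmActs (W : Subgroup G) : Acts (Subgroup.normalizer (W : Set G)) (FP P W) (FP L W) :=
  ⟨fun g p l => Acts.mem_iff (g : G) p.1 l.1⟩

variable [Fintype P] [Fintype L]

local notation "n" => ProjectivePlane.order P L

/-- An involution fixes a quadrangle or has an axis. -/
theorem involution_cases (g : G) (hinv : ∀ p : P, g • g • p = p) :
    Quad L (fun p : P => g • p = p) ∨ ∃ l : L, g ∈ Ax G (P := P) l := by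
  classical
  by_contra hcon
  push Not at hcon
  obtain ⟨hnq, hnax⟩ := hcon
  have hinvl : ∀ l : L, g • g • l = l := fun l => by
    rw [← mul_smul]
    exact lines_trivial (fun p => by rw [mul_smul, hinv p]) l
  -- every moved line carries a fixed point
  have hmoved : ∀ l : L, g • l ≠ l → ∃ p, p ∈ l ∧ g • p = p := fun l hl => by
    obtain ⟨p, hp1, hp2⟩ := exists_meet (P := P) hl
    refine ⟨p, hp2, point_eq hl (mem_smul hp2) hp1 ?_ hp2⟩
    have := mem_smul (g := g) hp1
    rwa [hinvl] at this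
  have hax : ∀ l : L, g • l = l → ∃ p, p ∈ l ∧ g • p ≠ p := fun l _ => by
    by_contra h
    push Not at h
    exact hnax l h
  have hcol : ∀ l₀ : L, ∃ p, g • p = p ∧ p ∉ l₀ := by
    intro l₀
    by_contra h
    push Not at h
    obtain ⟨q, hq⟩ := Nondegenerate.exists_point (P := P) l₀
    have hgq : g • q ≠ q := fun e => hq (h q e)
    obtain ⟨j, hj1, hj2⟩ := exists_line (L := L) hgq
    have hfix : ∀ u, u ∈ l₀ → u ∉ j → g • u = u := by
      intro u hu huj
      obtain ⟨m, hm1, hm2⟩ := exists_line (L := L) (pt_ne hu hq)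
      have hmj : m ≠ j := ne_of_not_mem hm1 huj
      have hm : g • m ≠ m := fun e => hmj (line_eq hgq (mem_of_fix_line e hm2) hm2 hj1 hj2)
      obtain ⟨p, hp1, hp2⟩ := hmoved m hm
      have hml : m ≠ l₀ := ne_of_not_mem hm2 hq
      rwa [point_eq hml hp1 hm1 (h p hp2) hu] at hp2
    obtain ⟨w, hw1, hw2⟩ := exists_meet (P := P) (ne_of_not_mem hj2 hq)
    obtain ⟨a, ha, haw, -⟩ := exists_mem_ne l₀ w w
    obtain ⟨b, hb, hbw, hba⟩ := exists_mem_ne l₀ w a
    have hne : ∀ u, u ∈ l₀ → u ≠ w → u ∉ j := fun u hu huw huj =>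
      huw (point_eq (ne_of_not_mem hj2 hq) huj hw1 hu hw2)
    have hga := hfix a ha (hne a ha haw)
    have hgb := hfix b hb (hne b hb hbw)
    have hl₀ := fix_line hba.symm hga hgb ha hb
    refine hnax l₀ fun u hu => ?_
    by_cases huw : u = w
    · subst huw
      by_contra hgu
      have := hfix (g • u) (mem_of_fix_line hl₀ hu) (hne _ (mem_of_fix_line hl₀ hu) hgu)
      rw [hinv] at this
      exact hgu this.symm
    · exact hfix u hu (hne u hu huw)
  -- a fixed triangle
  obtain ⟨-, -, -, l₀, -⟩ := ProjectivePlane.exists_config (P := P) (L := L)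
  obtain ⟨a, hga, -⟩ := hcol l₀
  obtain ⟨la, hla⟩ := exists_line_mem (L := L) a
  obtain ⟨b, hgb, hbla⟩ := hcol la
  have hab : a ≠ b := pt_ne hla hbla
  obtain ⟨lab, h1, h2⟩ := exists_line (L := L) hab
  obtain ⟨c, hgc, hc⟩ := hcol lab
  obtain ⟨lbc, h3, h4⟩ := exists_line (L := L) (pt_ne h2 hc)
  obtain ⟨lca, h5, h6⟩ := exists_line (L := L) (pt_ne h1 hc).symm
  have hac' : a ∉ lbc := fun h => hc (line_eq hab h h3 h1 h2 ▸ h4)
  have hb' : b ∉ lca := fun h => hc (line_eq hab h6 h h1 h2 ▸ h5)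
  -- two fixed non-vertices on different sides give a quadrangle
  have two : ∀ (a b c : P) (lab lbc lca : L), g • a = a → g • b = b → a ≠ b → a ∈ lab → b ∈ lab → c ∉ lab →
      b ∈ lbc → c ∈ lbc → c ∈ lca → a ∈ lca → ∀ x y, g • x = x → g • y = y → x ∈ lbc → x ≠ b → x ≠ c →
      y ∈ lca → y ≠ c → y ≠ a → False := by
    intro a b c lab lbc lca hga hgb hne h1 h2 hc h3 h4 h5 h6 x y hgx hgy hx hxb hxc hy hyc hya
    have hab : lbc ≠ lab := ne_of_not_mem h4 hc
    have hca : lca ≠ lab := ne_of_not_mem h5 hc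
    have hbc : lbc ≠ lca := fun e => by
      subst e
      exact hc (line_eq hne h6 h3 h1 h2 ▸ h4)
    have hxab : x ∉ lab := fun h => hxb (point_eq hab hx h3 h h2)
    have hyab : y ∉ lab := fun h => hya (point_eq hca hy h6 h h1)
    have hxy : x ≠ y := fun e => hxc (point_eq hbc hx h4 (e ▸ hy) h5)
    refine hnq ⟨a, b, x, y, hga, hgb, hgx, hgy, hne, hxy, fun l ha hb => ?_, fun l hx' hy' => ⟨fun ha => ?_, fun hb => ?_⟩⟩
    · rw [line_eq hne ha hb h1 h2]; exact ⟨hxab, hyab⟩
    · rw [line_eq hya hy' ha hy h6] at hx'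
      exact hxc (point_eq hbc hx h4 hx' h5)
    · rw [line_eq hxb hx' hb hx h3] at hy'
      exact hyc (point_eq hbc hy' h4 hy h5)
  -- every fixed point is on a side
  have side : ∀ x, g • x = x → x ∈ lab ∨ x ∈ lbc ∨ x ∈ lca := by
    intro x hgx
    by_contra h
    push Not at h
    refine hnq ⟨a, b, c, x, hga, hgb, hgc, hgx, hab, (pt_ne h4 h.2.1), fun l ha hb => ?_,
      fun l hc' hx' => ⟨fun ha => ?_, fun hb => ?_⟩⟩
    · rw [line_eq hab ha hb h1 h2]; exact ⟨hc, h.1⟩
    · exact h.2.2 (line_eq (pt_ne h1 hc).symm hc' ha h5 h6 ▸ hx')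
    · exact h.2.1 (line_eq (pt_ne h2 hc) hb hc' h3 h4 ▸ hx')
  -- all fixed points lie on a side and the opposite vertex
  have final : ∀ (o : P) (l : L) (a b : P), g • a = a → g • b = b → a ≠ b → a ∈ l → b ∈ l →
      (∀ x, g • x = x → x ∈ l ∨ x = o) → False := by
    intro o l a b hga hgb hab ha hb hall
    obtain ⟨u, hu, hgu⟩ := hax l (fix_line hab hga hgb ha hb)
    obtain ⟨lo, hlo1, hlo2⟩ := exists_line' (L := L) u o
    obtain ⟨m, hm, hml, hmo⟩ := exists_line_ne u l lo
    have hm' : g • m ≠ m := fun e => hgu (fix_point hml e (fix_line hab hga hgb ha hb) hm hu)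
    obtain ⟨p, hp1, hp2⟩ := hmoved m hm'
    have hpu : p ≠ u := fun e => hgu (e ▸ hp2)
    rcases hall p hp2 with h | rfl
    · exact hpu (point_eq hml hp1 hm h hu)
    · exact hmo (line_eq hpu hp1 hm hlo2 hlo1)
  by_cases hx : ∃ x, g • x = x ∧ x ∈ lbc ∧ x ≠ b ∧ x ≠ c
  · obtain ⟨x, hgx, hx, hxb, hxc⟩ := hx
    refine final a lbc b c hgb hgc (pt_ne h2 hc) h3 h4 fun y hgy => ?_
    by_contra hy
    push Not at hy
    rcases side y hgy with h | h | h
    · exact two c a b lca lab lbc hgc hga (pt_ne h1 hc).symm h5 h6 hb' h1 h2 h3 h4 y x hgy hgx h hy.2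
        (fun e => hy.1 (e ▸ h3)) hx hxb hxc
    · exact hy.1 h
    · exact two a b c lab lbc lca hga hgb hab h1 h2 hc h3 h4 h5 h6 x y hgx hgy hx hxb hxc h
        (fun e => hy.1 (e ▸ h4)) hy.2
  push Not at hx
  have hbc' : ∀ x, g • x = x → x ∈ lbc → x = b ∨ x = c := fun x h h' => or_iff_not_imp_left.2 (hx x h h')
  by_cases hy : ∃ y, g • y = y ∧ y ∈ lca ∧ y ≠ c ∧ y ≠ a
  · obtain ⟨y, hgy, hy, hyc, hya⟩ := hy
    refine final b lca c a hgc hga (pt_ne h1 hc).symm h5 h6 fun x hgx => ?_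
    by_contra hx'
    push Not at hx'
    rcases side x hgx with h | h | h
    · exact two b c a lbc lca lab hgb hgc (pt_ne h2 hc) h3 h4 hac' h5 h6 h1 h2 y x hgy hgx hy hyc hya h
        (fun e => hx'.1 (e ▸ h6)) hx'.2
    · rcases hbc' x hgx h with e | e
      · exact hx'.2 e
      · exact hx'.1 (e ▸ h5)
    · exact hx'.1 h
  push Not at hy
  refine final c lab a b hga hgb hab h1 h2 fun x hgx => ?_
  rcases side x hgx with h | h | h
  · exact Or.inl h
  · rcases hbc' x hgx h with e | e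
    · exact Or.inl (e ▸ h2)
    · exact Or.inr e
  · by_cases e : x = c
    · exact Or.inr e
    · exact Or.inl (hy x hgx h e ▸ h1)

/-- Baer: the fixed plane of an involution has order `√n`. -/
theorem baer {g : G} (hinv : ∀ p : P, g • g • p = p) (hne : ∃ p : P, g • p ≠ p) {k : ℕ}
    (hk : Nat.card {p : P // g • p = p} = k ^ 2 + k + 1)
    (hline : ∀ l : L, g • l = l → Nat.card {p : P // p ∈ l ∧ g • p = p} = k + 1) : k ^ 2 = n := by
  classical
  have hv := card_plane (P := P) (L := L)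
  have hfl := card_fixed_eq (L := L) (P := P) g
  rw [hk] at hfl
  let f : (Σ l : {l : L // g • l = l}, {p : P // p ∈ l.1 ∧ g • p ≠ p}) → {p : P // g • p ≠ p} :=
    fun x => ⟨x.2.1, x.2.2.2⟩
  have hf : Function.Bijective f := by
    constructor
    · rintro ⟨⟨l, hl⟩, p, hp, hgp⟩ ⟨⟨m, hm⟩, q, hq, hgq⟩ he
      obtain rfl : p = q := congrArg Subtype.val he
      obtain rfl : l = m := by
        by_contra h
        exact hgp (fix_point h hl hm hp hq)
      rfl
    · rintro ⟨p, hp⟩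
      obtain ⟨j, hj1, hj2⟩ := exists_line (L := L) hp
      have hgj : g • j = j := by
        refine line_eq hp (mem_smul hj2) ?_ hj1 hj2
        have := mem_smul (g := g) hj1
        rwa [hinv] at this
      exact ⟨⟨⟨j, hgj⟩, p, hj2, hp⟩, rfl⟩
  have hmov : ∀ l : {l : L // g • l = l}, Nat.card {p : P // p ∈ l.1 ∧ g • p ≠ p} = n - k := by
    intro l
    have h1 := card_line (P := P) l.1
    have h2 := hline l.1 l.2
    rw [Nat.card_eq_fintype_card, Fintype.card_subtype] at h1 h2 ⊢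
    have := Finset.card_filter_add_card_filter_not (s := Finset.univ.filter fun p : P => p ∈ l.1)
      (fun p => g • p = p)
    rw [Finset.filter_filter, Finset.filter_filter, h1, h2] at this
    simp only [ne_eq] at this ⊢
    omega
  have hc := Nat.card_congr (Equiv.ofBijective f hf)
  rw [Nat.card_sigma, Finset.sum_congr rfl fun l _ => hmov l, Finset.sum_const, Finset.card_univ,
    ← Nat.card_eq_fintype_card, ← hfl, smul_eq_mul] at hc
  have hsum : Nat.card {p : P // g • p = p} + Nat.card {p : P // g • p ≠ p} = Nat.card P := by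
    rw [← Nat.card_sum]
    exact Nat.card_congr (Equiv.sumCompl fun p : P => g • p = p)
  rw [hk, hv, ← hc] at hsum
  obtain ⟨p, hp⟩ := hne
  have hpos : 0 < (k ^ 2 + k + 1) * (n - k) := by
    rw [hc]
    haveI : Nonempty {p : P // g • p ≠ p} := ⟨⟨p, hp⟩⟩
    exact Nat.card_pos
  have hkn : k < n := by
    rcases Nat.lt_or_ge k n with h | h
    · exact h
    · rw [Nat.sub_eq_zero_of_le h, mul_zero] at hpos; omega
  obtain ⟨d, hd⟩ := Nat.exists_eq_add_of_lt hkn
  rw [hd, show k + d + 1 - k = d + 1 by omega] at hsum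
  rw [hd]
  nlinarith

/-- The fixed plane of a `2`-group fixing a quadrangle. -/
theorem order_chain [Finite G] (W : Subgroup G) (hW : IsPGroup 2 W) (hq : Quad L (Fixd W : P → Prop)) :
    ∃ i : ℕ, (letI := subPlane hq; ProjectivePlane.order (FP P W) (FP L W)) ^ 2 ^ i = n := by
  classical
  haveI := Fact.mk Nat.prime_two
  induction hm : Nat.card W using Nat.strong_induction_on generalizing W with
  | _ m ih =>
    obtain ⟨j, hj⟩ := IsPGroup.iff_card.1 hW
    letI := subPlane hq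
    set k := ProjectivePlane.order (FP P W) (FP L W)
    have hcard : Nat.card (FP P W) = k ^ 2 + k + 1 := card_plane (L := FP L W)
    rcases j with - | j
    · have hbot : W = ⊥ := Subgroup.card_eq_one.1 (by simpa using hj)
      have : Nat.card (FP P W) = Nat.card P :=
        Nat.card_congr (Equiv.subtypeUnivEquiv fun p w hw => by
          rw [hbot, Subgroup.mem_bot] at hw; rw [hw, one_smul])
      rw [hcard, card_plane (L := L)] at this
      refine ⟨0, ?_⟩
      rw [pow_zero, pow_one]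
      nlinarith
    obtain ⟨W₀, hW₀⟩ := Sylow.exists_subgroup_card_pow_prime 2 (G := W)
      (show 2 ^ j ∣ Nat.card W by rw [hj]; exact pow_dvd_pow 2 (Nat.le_succ j))
    have hidx : W₀.index = 2 := by
      have := W₀.card_mul_index
      rw [hW₀, hj, pow_succ] at this
      exact Nat.eq_of_mul_eq_mul_left (by positivity) this
    obtain ⟨w, -, hw⟩ := SetLike.not_le_iff_exists.1 (show ¬ (⊤ : Subgroup W) ≤ W₀ from fun h => by
      rw [top_le_iff.1 h, Subgroup.index_top] at hidx; omega)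
    set V := W₀.map W.subtype
    have hVW : V ≤ W := Subgroup.map_subtype_le _
    have hqV : Quad L (Fixd V : P → Prop) := hq.mono fun p hp x hx => hp x (hVW hx)
    have hVcard : Nat.card V = 2 ^ j := by
      rw [Subgroup.card_map_of_injective W.subtype_injective, hW₀]
    obtain ⟨i, hi⟩ := ih _ (by rw [← hm, hj, hVcard]; exact Nat.pow_lt_pow_right (by omega) (by omega))
      V (hW.to_le hVW) hqV rfl
    letI := subPlane hqV
    set k₀ := ProjectivePlane.order (FP P V) (FP L V)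
    have hN : (w : G) ∈ Subgroup.normalizer (V : Set G) := by
      haveI : W₀.Normal := ⟨fun y hy g => by
        rw [Subgroup.mul_mem_iff_of_index_two hidx, Subgroup.mul_mem_iff_of_index_two hidx, inv_mem_iff]
        tauto⟩
      rw [Subgroup.mem_normalizer_iff]
      intro x
      constructor
      · rintro ⟨y, hy, rfl⟩
        exact ⟨w * y * w⁻¹, Subgroup.Normal.conj_mem inferInstance y hy w, by simp⟩
      · rintro ⟨y, hy, he⟩
        refine ⟨w⁻¹ * y * w, ?_, ?_⟩
        · have := Subgroup.Normal.conj_mem (H := W₀) inferInstance y hy w⁻¹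
          rwa [inv_inv] at this
        · rw [map_mul, map_mul, map_inv, he, Subgroup.coe_subtype]; group
    set w' : Subgroup.normalizer (V : Set G) := ⟨w, hN⟩
    have hw2 : ((w : G) * w) ∈ V := ⟨w * w, Subgroup.mul_self_mem_of_index_two hidx w, by simp⟩
    have hfix := fun (p : P) => fixd_iff W₀ hidx hw p
    have hfixl := fun (l : L) => fixd_iff W₀ hidx hw l
    by_cases htriv : ∀ p : FP P V, w' • p = p
    · have : Nat.card (FP P W) = Nat.card (FP P V) := Nat.card_congr
        (Equiv.subtypeEquivRight fun p => ⟨fun h => ((hfix p).1 h).1,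
          fun h => (hfix p).2 ⟨h, congrArg Subtype.val (htriv ⟨p, h⟩)⟩⟩)
      rw [hcard, card_plane (L := FP L V)] at this
      exact ⟨i, by rw [show k = k₀ by nlinarith]; exact hi⟩
    push Not at htriv
    have hb : k ^ 2 = k₀ := by
      refine baer (L := FP L V) (g := w') (fun p => Subtype.ext ?_) htriv ?_ fun l hl => ?_
      · show (w : G) • (w : G) • p.1 = p.1
        rw [← mul_smul]; exact p.2 _ hw2
      · rw [← hcard]
        exact Nat.card_congr
          { toFun := fun p => ⟨p.1.1, (hfix _).2 ⟨p.1.2, congrArg Subtype.val p.2⟩⟩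
            invFun := fun p => ⟨⟨p.1, ((hfix _).1 p.2).1⟩, Subtype.ext ((hfix _).1 p.2).2⟩
            left_inv := fun _ => rfl
            right_inv := fun _ => rfl }
      · have hlW : Fixd W l.1 := (hfixl _).2 ⟨l.2, congrArg Subtype.val hl⟩
        rw [← card_line (P := FP P W) (⟨l.1, hlW⟩ : FP L W)]
        exact Nat.card_congr
          { toFun := fun p => ⟨⟨p.1.1, (hfix _).2 ⟨p.1.2, congrArg Subtype.val p.2.2⟩⟩, p.2.1⟩
            invFun := fun p => ⟨⟨p.1.1, ((hfix _).1 p.1.2).1⟩, p.2, Subtype.ext ((hfix _).1 p.1.2).2⟩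
            left_inv := fun _ => rfl
            right_inv := fun _ => rfl }
    exact ⟨i + 1, by rw [pow_succ', pow_mul, hb]; exact hi⟩

end Cfsg.Agent.Lie.OW
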