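import Mathlib.Combinatorics.Configuration
import Mathlib.GroupTheory.GroupAction.Quotient
import Mathlib.GroupTheory.GroupAction.Defs

/-!
# Collineation groups of finite projective planes

Elementary incidence facts, the dual action, and the equality of the numbers of fixed points and fixed lines.
-/

set_option autoImplicit false

namespace Cfsg.Agent.Lie.OW

open Configuration

universe u v w

/-- A group acting on points and lines respecting incidence. -/
class Acts (G : Type w) (P : Type u) (L : Type v) [Membership P L] [SMul G P] [SMul G L] : Prop where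
  mem_iff : ∀ (g : G) (p : P) (l : L), g • p ∈ g • l ↔ p ∈ l

variable {G : Type w} {P : Type u} {L : Type v}

instance [Group G] [MulAction G P] : MulAction G (Dual P) := ‹MulAction G P›

instance [Membership P L] [Group G] [MulAction G P] [MulAction G L] [Acts G P L] :
    Acts G (Dual L) (Dual P) :=
  ⟨fun g l p => Acts.mem_iff (G := G) (P := P) (L := L) g p l⟩

section Incidence

variable [Membership P L] [ProjectivePlane P L]

theorem line_eq {a b : P} (h : a ≠ b) {l m : L} (h1 : a ∈ l) (h2 : b ∈ l) (h3 : a ∈ m) (h4 : b ∈ m) :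
    l = m :=
  (Nondegenerate.eq_or_eq h1 h2 h3 h4).resolve_left h

theorem point_eq {l m : L} (h : l ≠ m) {a b : P} (h1 : a ∈ l) (h2 : b ∈ l) (h3 : a ∈ m) (h4 : b ∈ m) :
    a = b :=
  (Nondegenerate.eq_or_eq h1 h2 h3 h4).resolve_right h

theorem exists_line {a b : P} (h : a ≠ b) : ∃ l : L, a ∈ l ∧ b ∈ l :=
  ⟨_, HasLines.mkLine_ax h⟩

theorem exists_meet {l m : L} (h : l ≠ m) : ∃ p : P, p ∈ l ∧ p ∈ m :=
  ⟨_, HasPoints.mkPoint_ax h⟩

theorem ne_of_not_mem {l m : L} {p : P} (h1 : p ∈ l) (h2 : p ∉ m) : l ≠ m :=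
  fun h => h2 (h ▸ h1)

theorem pt_ne {l : L} {p q : P} (h1 : p ∈ l) (h2 : q ∉ l) : p ≠ q :=
  fun h => h2 (h ▸ h1)

variable [Fintype P] [Fintype L]

local notation "n" => ProjectivePlane.order P L

theorem two_le_order : 2 ≤ n := ProjectivePlane.one_lt_order P L

theorem card_line (l : L) : Nat.card {p : P // p ∈ l} = n + 1 := ProjectivePlane.pointCount_eq P l

theorem card_pencil (p : P) : Nat.card {l : L // p ∈ l} = n + 1 := ProjectivePlane.lineCount_eq L p

theorem card_plane : Nat.card P = n ^ 2 + n + 1 := by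
  rw [Nat.card_eq_fintype_card]; exact ProjectivePlane.card_points P L

theorem card_off (l : L) : Nat.card {p : P // p ∉ l} = n ^ 2 := by
  classical
  have := card_line (P := P) l
  have h := card_plane (P := P) (L := L)
  rw [Nat.card_eq_fintype_card] at this h ⊢
  rw [Fintype.card_subtype_compl, this, h]
  omega

/-- A line has a point outside any two given points. -/
theorem exists_mem_ne (l : L) (a b : P) : ∃ p, p ∈ l ∧ p ≠ a ∧ p ≠ b := by
  classical
  by_contra h
  push Not at h
  have hc : Nat.card {p : P // p ∈ l} ≤ Nat.card Bool := by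
    refine Nat.card_le_card_of_injective (fun p => decide (p.1 = a)) fun p q hpq => Subtype.ext ?_
    simp only [decide_eq_decide] at hpq
    by_cases hp : p.1 = a
    · rw [hp, hpq.1 hp]
    · rw [h p p.2 hp, h q q.2 fun hq => hp (hpq.2 hq)]
  rw [card_line, Nat.card_eq_fintype_card, Fintype.card_bool] at hc
  have := two_le_order (P := P) (L := L)
  omega

/-- A point has a line through it outside any two given lines. -/
theorem exists_line_ne (p : P) (a b : L) : ∃ l : L, p ∈ l ∧ l ≠ a ∧ l ≠ b :=
  exists_mem_ne (P := Dual L) (L := Dual P) p a b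

theorem exists_line_mem (p : P) : ∃ l : L, p ∈ l := by
  by_contra h
  push Not at h
  have hc := card_pencil (L := L) p
  haveI : IsEmpty {l : L // p ∈ l} := ⟨fun l => h l.1 l.2⟩
  rw [Nat.card_of_isEmpty] at hc
  omega

theorem exists_point_mem (l : L) : ∃ p : P, p ∈ l := exists_line_mem (P := Dual L) (L := Dual P) l

/-- Two points lie on some line. -/
theorem exists_line' (a b : P) : ∃ l : L, a ∈ l ∧ b ∈ l := by
  by_cases h : a = b
  · subst h
    obtain ⟨l, hl⟩ := exists_line_mem (L := L) a
    exact ⟨l, hl, hl⟩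
  · exact exists_line h

/-- There is a point outside two lines. -/
theorem exists_off (l m : L) : ∃ p : P, p ∉ l ∧ p ∉ m := by
  obtain ⟨u, hu⟩ := Nondegenerate.exists_point (P := P) l
  by_cases hum : u ∈ m
  · obtain ⟨a, ha, -, -⟩ := exists_mem_ne l u u
    obtain ⟨b, hb, hba, -⟩ := exists_mem_ne m u u
    by_cases hlm : l = m
    · exact absurd hum (hlm ▸ hu)
    obtain ⟨w, hw1, hw2⟩ := exists_meet (P := P) hlm
    obtain ⟨a, ha, haw, -⟩ := exists_mem_ne l w w
    have hau : a ≠ u := pt_ne ha hu
    obtain ⟨j, hj1, hj2⟩ := exists_line (L := L) hau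
    obtain ⟨q, hq, hqa, hqu⟩ := exists_mem_ne j a u
    have hjl : j ≠ l := ne_of_not_mem hj2 hu
    have ham : a ∉ m := fun h => haw (point_eq hlm ha hw1 h hw2)
    have hjm : j ≠ m := ne_of_not_mem hj1 ham
    exact ⟨q, fun h => hqa (point_eq hjl hq hj1 h ha), fun h => hqu (point_eq hjm hq hj2 h hum)⟩
  · exact ⟨u, hu, hum⟩

end Incidence

section Action

variable [Membership P L] [Group G] [MulAction G P] [MulAction G L] [Acts G P L]

theorem mem_smul {g : G} {p : P} {l : L} (h : p ∈ l) : g • p ∈ g • l := (Acts.mem_iff g p l).2 h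

theorem mem_of_fix_line {g : G} {p : P} {l : L} (hl : g • l = l) (h : p ∈ l) : g • p ∈ l :=
  hl ▸ mem_smul h

theorem mem_of_fix_point {g : G} {p : P} {l : L} (hp : g • p = p) (h : p ∈ l) : p ∈ g • l := by
  have := mem_smul (g := g) h
  rwa [hp] at this

theorem not_mem_smul {g : G} {p : P} {l : L} (h : p ∉ l) : g • p ∉ g • l :=
  fun h' => h ((Acts.mem_iff g p l).1 h')

theorem not_mem_of_fix_line {g : G} {p : P} {l : L} (hl : g • l = l) (h : p ∉ l) : g • p ∉ l :=
  fun h' => not_mem_smul (g := g) h (hl.symm ▸ h')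

variable [ProjectivePlane P L]

theorem fix_line {g : G} {a b : P} (h : a ≠ b) (ha : g • a = a) (hb : g • b = b) {l : L}
    (h1 : a ∈ l) (h2 : b ∈ l) : g • l = l :=
  line_eq h (mem_of_fix_point ha h1) (mem_of_fix_point hb h2) h1 h2

theorem fix_point {g : G} {l m : L} (h : l ≠ m) (hl : g • l = l) (hm : g • m = m) {a : P}
    (h1 : a ∈ l) (h2 : a ∈ m) : g • a = a :=
  point_eq h (mem_of_fix_line hl h1) h1 (mem_of_fix_line hm h2) h2

variable [Fintype P] [Fintype L]

theorem lines_trivial {g : G} (h : ∀ p : P, g • p = p) (l : L) : g • l = l := by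
  obtain ⟨a, ha⟩ := exists_point_mem (P := P) l
  obtain ⟨b, hb, hab, -⟩ := exists_mem_ne l a a
  exact fix_line hab.symm (h a) (h b) ha hb

theorem points_trivial {g : G} (h : ∀ l : L, g • l = l) (p : P) : g • p = p :=
  lines_trivial (P := Dual L) (L := Dual P) h p

instance [FaithfulSMul G P] : FaithfulSMul G (Dual L) where
  eq_of_smul_eq_smul {g g'} h := by
    refine eq_of_smul_eq_smul (α := P) fun p => ?_
    have h1 : ∀ l : L, (g'⁻¹ * g) • l = l := fun l => by
      have e : g • l = g' • l := h l
      rw [mul_smul, e, inv_smul_smul]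
    have h2 := points_trivial h1 p
    rw [mul_smul, inv_smul_eq_iff] at h2
    exact h2

omit [Fintype P] [Fintype L] [ProjectivePlane P L] in
theorem eq_one_of_fix [FaithfulSMul G P] {g : G} (h : ∀ p : P, g • p = p) : g = 1 :=
  eq_of_smul_eq_smul (α := P) fun p => by rw [h p, one_smul]

/-- A collineation fixes as many lines as points. -/
theorem card_fixed_eq (g : G) :
    Nat.card {p : P // g • p = p} = Nat.card {l : L // g • l = l} := by
  classical
  set N := ProjectivePlane.order P L with hN
  have h2 := two_le_order (P := P) (L := L)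
  have hA : ∀ p : P, (Finset.univ.filter fun l : L => p ∈ l ∧ g • p ∈ l).card =
      1 + if g • p = p then N else 0 := by
    intro p
    rw [← Fintype.card_subtype]
    split
    next h =>
      rw [show 1 + N = N + 1 by omega, hN, ← card_pencil (L := L) p, Nat.card_eq_fintype_card]
      exact Fintype.card_congr (Equiv.subtypeEquivRight fun l => by rw [h, and_self])
    next h =>
      obtain ⟨m, hm1, hm2⟩ := exists_line (L := L) h
      rw [Nat.add_zero, Fintype.card_eq_one_iff]
      exact ⟨⟨m, hm2, hm1⟩, fun l => Subtype.ext (line_eq h l.2.2 l.2.1 hm1 hm2)⟩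
  have hB : ∀ l : L, (Finset.univ.filter fun p : P => p ∈ l ∧ g • p ∈ l).card =
      1 + if g • l = l then N else 0 := by
    intro l
    rw [← Fintype.card_subtype]
    have e : ∀ p : P, g • p ∈ l ↔ p ∈ g⁻¹ • l := fun p => by
      conv_lhs => rw [← smul_inv_smul g l]
      exact Acts.mem_iff g p _
    split
    next h =>
      rw [show 1 + N = N + 1 by omega, hN, ← card_line (P := P) l, Nat.card_eq_fintype_card]
      refine Fintype.card_congr (Equiv.subtypeEquivRight fun p => ?_)
      rw [e, inv_smul_eq_iff.2 h.symm, and_self]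
    next h =>
      have hne : l ≠ g⁻¹ • l := fun h' => h (eq_inv_smul_iff.1 h')
      obtain ⟨q, hq1, hq2⟩ := exists_meet (P := P) hne
      rw [Nat.add_zero, Fintype.card_eq_one_iff]
      exact ⟨⟨q, hq1, (e q).2 hq2⟩, fun p => Subtype.ext (point_eq hne p.2.1 hq1 ((e p).1 p.2.2) hq2)⟩
  have hkey : (∑ p : P, (Finset.univ.filter fun l : L => p ∈ l ∧ g • p ∈ l).card) =
      ∑ l : L, (Finset.univ.filter fun p : P => p ∈ l ∧ g • p ∈ l).card := by
    simp only [Finset.card_filter]
    exact Finset.sum_comm
  simp only [hA, hB, Finset.sum_add_distrib, ← Finset.sum_filter, Finset.sum_const, smul_eq_mul,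
    Finset.card_univ, ProjectivePlane.card_points_eq_card_lines P L, ← Fintype.card_subtype] at hkey
  rw [Nat.card_eq_fintype_card, Nat.card_eq_fintype_card]
  exact Nat.eq_of_mul_eq_mul_right (m := N) (by omega) (by omega)

end Action

end Cfsg.Agent.Lie.OW
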