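import Cfsg.Agent.Lib.Lie.OstromWagner.Translation
import Cfsg.Agent.Lib.PushUp.SpreadCommute
import Mathlib.Algebra.Field.Shrink
import Mathlib.LinearAlgebra.Projectivization.Cardinality
import Mathlib.GroupTheory.GroupAction.ConjAct

/-!
# Coordinates for a plane all of whose lines are translation lines

The translation group of a line is a vector group with a spread on which the shears fixing a point act; the
recognition of the natural `SL₂(q)`-module gives a field, and hence coordinates of the plane.
-/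

set_option autoImplicit false

namespace Cfsg.Agent.Lie.OW

open Configuration MulAction Cfsg.Agent
open scoped LinearAlgebra.Projectivization

universe u v w

/-- Every line is a translation line with full elation groups at each of its points. -/
structure Moufang (G : Type w) (P : Type u) (L : Type v) [Membership P L] [ProjectivePlane P L]
    [Fintype P] [Fintype L] [Group G] [MulAction G P] [MulAction G L] [Acts G P L] [FaithfulSMul G P] :
    Prop where
  card : ∀ l : L, Nat.card (Elat G (P := P) l) = ProjectivePlane.order P L ^ 2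
  card_at : ∀ (l : L) (u : P), u ∈ l →
    Nat.card ↥(Elat G (P := P) l ⊓ Cent G (L := L) u) = ProjectivePlane.order P L
  comm : ∀ (l : L), ∀ e ∈ Elat G (P := P) l, ∀ e' ∈ Elat G (P := P) l, e * e' = e' * e

variable {G : Type w} [Group G] [Finite G] {P : Type u} {L : Type v} [Membership P L] [ProjectivePlane P L]
  [Fintype P] [Fintype L] [MulAction G P] [MulAction G L] [Acts G P L] [FaithfulSMul G P]

local notation "N" => ProjectivePlane.order P L

namespace Moufang

variable (hM : Moufang G P L)
include hM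

theorem translate {l : L} {o q : P} (ho : o ∉ l) (hq : q ∉ l) : ∃ t ∈ Elat G (P := P) l, t • o = q := by
  let f : Elat G (P := P) l → {p : P // p ∉ l} :=
    fun t => ⟨(t : G) • o, not_mem_of_fix_line (ax_fix_line t.2.1) ho⟩
  have hb : Function.Bijective f := by
    refine (Nat.bijective_iff_injective_and_card f).2 ⟨fun a b h => ?_, by rw [hM.card, card_off]⟩
    have h' : (a : G) • o = (b : G) • o := congrArg Subtype.val h
    by_contra hne
    exact elat_free (mul_mem (inv_mem b.2) a.2)
      (fun e => hne (Subtype.ext (inv_mul_eq_one.1 e).symm)) ho (by rw [mul_smul, h', inv_smul_smul])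
  obtain ⟨t, ht⟩ := hb.2 ⟨q, hq⟩
  exact ⟨t, t.2, congrArg Subtype.val ht⟩

/-- The elations with centre `u` on the axis `j` move the points of another line through `u` transitively. -/
theorem shear {j m : L} {u a b : P} (hu : u ∈ j) (hum : u ∈ m) (hjm : j ≠ m) (ha : a ∈ m) (hau : a ≠ u)
    (hb : b ∈ m) (hbu : b ≠ u) : ∃ s ∈ Elat G (P := P) j ⊓ Cent G (L := L) u, s • a = b := by
  classical
  set E := Elat G (P := P) j ⊓ Cent G (L := L) u
  have hoff : ∀ {q : P}, q ∈ m → q ≠ u → q ∉ j := fun hq hne h => hne (point_eq hjm h hu hq hum)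
  let f : E → {p : P // p ∈ m ∧ p ≠ u} := fun s => ⟨(s : G) • a, mem_of_fix_line (s.2.2 m hum) ha, fun e =>
    hau (smul_left_cancel (s : G) (e.trans (cent_fix s.2.2).symm))⟩
  have hcard : Nat.card {p : P // p ∈ m ∧ p ≠ u} = N := by
    have h := card_line (P := P) m
    rw [Nat.card_eq_fintype_card, Fintype.card_subtype] at h ⊢
    rw [← Finset.filter_filter, Finset.filter_ne', Finset.card_erase_of_mem (by simp [hum]), h]
    omega
  have hb' : Function.Bijective f := by
    refine (Nat.bijective_iff_injective_and_card f).2 ⟨fun x y h => ?_, by rw [hcard, hM.card_at j u hu]⟩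
    have h' : (x : G) • a = (y : G) • a := congrArg Subtype.val h
    by_contra hne
    exact elat_free (mul_mem (inv_mem y.2.1) x.2.1)
      (fun e => hne (Subtype.ext (inv_mul_eq_one.1 e).symm)) (hoff ha hau) (by rw [mul_smul, h', inv_smul_smul])
  obtain ⟨s, hs⟩ := hb'.2 ⟨b, hb, hbu⟩
  exact ⟨s, s.2, congrArg Subtype.val hs⟩

/-- The translation group with its spread has coordinates over a field. -/
theorem exists_spread_coord {l₀ : L} {o : P} (ho : o ∉ l₀) :
    ∃ (F : Type) (_ : Field F) (_ : Fintype F) (ψ : Additive (Elat G (P := P) l₀) ≃+ (Fin 2 → F))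
      (w : P → Fin 2 → F), Fintype.card F = N ∧
      ∀ u, u ∈ l₀ → w u ≠ 0 ∧ ∀ t : Elat G (P := P) l₀,
        (t : G) ∈ Cent G (L := L) u ↔ ∃ c : F, ψ (Additive.ofMul t) = c • w u := by
  classical
  set T := Elat G (P := P) l₀
  letI : CommGroup T := { (inferInstance : Group T) with
    mul_comm := fun a b => Subtype.ext (hM.comm l₀ a a.2 b b.2) }
  obtain ⟨u₀, hu₀⟩ := exists_point_mem (P := P) l₀
  obtain ⟨j₀, hoj₀, huj₀⟩ := exists_line (L := L) (pt_ne hu₀ ho).symm
  have hj₀ : j₀ ≠ l₀ := ne_of_not_mem hoj₀ ho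
  have hline : ∀ {u : P} {j j' : L}, u ∈ l₀ → o ∈ j → u ∈ j → o ∈ j' → u ∈ j' → j = j' :=
    fun hu h1 h2 h3 h4 => line_eq (pt_ne hu ho).symm h1 h2 h3 h4
  -- the group generated by the shears
  let gens : Set G := {g | ∃ (u : P) (j : L), u ∈ l₀ ∧ o ∈ j ∧ u ∈ j ∧
    g ∈ Elat G (P := P) j ⊓ Cent G (L := L) u}
  set G' := Subgroup.closure gens
  have hG' : G' ≤ stabilizer G l₀ ⊓ stabilizer G o := by
    rw [Subgroup.closure_le]
    rintro g ⟨u, j, hu, hoj, huj, hg⟩
    exact ⟨hg.2 l₀ hu, hg.1.1 o hoj⟩
  have hsh : ∀ {u : P} {j : L}, u ∈ l₀ → o ∈ j → u ∈ j →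
      Elat G (P := P) j ⊓ Cent G (L := L) u ≤ G' :=
    fun {u j} hu hoj huj g hg => Subgroup.subset_closure ⟨u, j, hu, hoj, huj, hg⟩
  -- conjugation on the translations
  have hnorm : ∀ g : G', ∀ t : T, (g : G) * (t : G) * (g : G)⁻¹ ∈ T := fun g t => by
    have := elat_conj (h := (g : G)) t.2
    rwa [(hG' g.2).1] at this
  let ρ : G' →* AddMonoid.End (Additive T) :=
    { toFun := fun g => MonoidHom.toAdditive (MonoidHom.mk'
        (fun t : T => (⟨(g : G) * t * (g : G)⁻¹, hnorm g t⟩ : T))
        fun a b => Subtype.ext (show (g : G) * (a * b : G) * (g : G)⁻¹ =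
          ((g : G) * a * (g : G)⁻¹) * ((g : G) * b * (g : G)⁻¹) by group))
      map_one' := AddMonoidHom.ext fun t => Subtype.ext
        (show (1 : G) * (Additive.toMul t : T).1 * (1 : G)⁻¹ = (Additive.toMul t : T).1 by group)
      map_mul' := fun g h => AddMonoidHom.ext fun t => Subtype.ext
        (show ((g : G) * h) * (Additive.toMul t : T).1 * ((g : G) * h)⁻¹ =
          (g : G) * ((h : G) * (Additive.toMul t : T).1 * (h : G)⁻¹) * (g : G)⁻¹ by group) }
  have hρ : ∀ (g : G') (t : Additive T),
      ((Additive.toMul (ρ g t) : T) : G) = (g : G) * (Additive.toMul t : T).1 * (g : G)⁻¹ := fun _ _ => rfl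
  let A : AddSubgroup (Additive T) := Subgroup.toAddSubgroup ((Cent G (L := L) u₀).subgroupOf T)
  have hA : ∀ t : Additive T, t ∈ A ↔ ((Additive.toMul t : T) : G) ∈ Cent G (L := L) u₀ := fun _ => Iff.rfl
  set S₀ := Elat G (P := P) j₀ ⊓ Cent G (L := L) u₀
  have hS₀ : S₀ ≤ G' := hsh hu₀ hoj₀ huj₀
  let M : Subgroup G' := stabilizer G' u₀
  have hmemM : ∀ g : G', g ∈ M ↔ (g : G) • u₀ = u₀ := fun _ => Iff.rfl
  have hl₀ : ∀ g : G', (g : G) • l₀ = l₀ := fun g => (hG' g.2).1
  have hgo : ∀ g : G', (g : G) • o = o := fun g => (hG' g.2).2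
  have hgj : ∀ g : G', ∀ {u : P} {j j' : L}, o ∈ j → u ∈ j → u ∈ l₀ → o ∈ j' → (g : G) • u ∈ j' →
      (g : G) • j = j' := fun g {u j j'} h1 h2 h3 h4 h5 =>
    line_eq (pt_ne (mem_of_fix_line (hl₀ g) h3) ho).symm (mem_of_fix_point (hgo g) h1) (mem_smul h2) h4 h5
  -- transitivity on `l₀`
  have htrans : ∀ u, u ∈ l₀ → ∃ g : G', (g : G) • u₀ = u := by
    intro u hu
    obtain ⟨u', hu', hu'0, hu'u⟩ := exists_mem_ne l₀ u₀ u
    obtain ⟨j', hoj', huj'⟩ := exists_line (L := L) (pt_ne hu' ho).symm
    obtain ⟨s, hs, hsu⟩ := hM.shear huj' hu' (ne_of_not_mem hoj' ho) hu₀ hu'0.symm hu hu'u.symm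
    exact ⟨⟨s, hsh hu' hoj' huj' hs⟩, hsu⟩
  have hcardA : Nat.card A = N := by
    rw [← hM.card_at l₀ u₀ hu₀]
    exact Nat.card_congr
      { toFun := fun t => ⟨(Additive.toMul t.1 : T).1, (Additive.toMul t.1 : T).2, t.2⟩
        invFun := fun t => ⟨Additive.ofMul ⟨t.1, t.2.1⟩, t.2.2⟩
        left_inv := fun _ => rfl
        right_inv := fun _ => rfl }
  obtain ⟨g₁, hg₁⟩ : ∃ g : G', g ∉ M := by
    obtain ⟨u, hu, hu0, -⟩ := exists_mem_ne l₀ u₀ u₀
    obtain ⟨g, hg⟩ := htrans u hu
    exact ⟨g, fun h => hu0 (hg.symm.trans h)⟩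
  have hmoved : ∀ g : G', g ∉ M → (g : G) • u₀ ≠ u₀ := fun g hg h => hg h
  have D : PushUp.SpreadAct (S₀.subgroupOf G') (⊥ : Subgroup G') M ρ A N := by
    refine ⟨two_le_order, inferInstance, bot_le, ?_, ?_, fun h => hg₁ (h ▸ Subgroup.mem_top _), ?_, ?_, ?_,
      hcardA, ?_, ?_, ?_, ?_⟩
    · rw [Subgroup.relIndex_bot_left, Nat.card_congr (Subgroup.subgroupOfEquivOfLe hS₀).toEquiv,
        hM.card_at j₀ u₀ huj₀]
    · exact fun s hs => (hmemM s).2 (cent_fix (Subgroup.mem_subgroupOf.1 hs).2)
    · intro H hSH hHM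
      obtain ⟨h, hh, hhM⟩ := SetLike.not_le_iff_exists.1 hHM
      have hgen : ∀ g : G, ∀ hg : g ∈ gens, (⟨g, Subgroup.subset_closure hg⟩ : G') ∈ H := by
        rintro g hgg
        obtain ⟨u, j, hu, hoj, huj, hg⟩ := id hgg
        obtain ⟨k, hk, hku⟩ : ∃ k ∈ H, (k : G) • u₀ = u := by
          by_cases h0 : u = u₀
          · exact ⟨1, one_mem _, by rw [h0]; exact one_smul G u₀⟩
          obtain ⟨s, hs, hsu⟩ := hM.shear huj₀ hu₀ hj₀ (mem_of_fix_line (hl₀ h) hu₀) (hmoved h hhM) hu h0
          exact ⟨⟨s, hS₀ hs⟩ * h, mul_mem (hSH hs) hh, by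
            show (s * (h : G)) • u₀ = u
            rw [mul_smul, hsu]⟩
        have hkj : (k : G)⁻¹ • j = j₀ := by
          rw [inv_smul_eq_iff]
          exact (hgj k hoj₀ huj₀ hu₀ hoj (hku ▸ huj)).symm
        have hs : k⁻¹ * ⟨g, Subgroup.subset_closure hgg⟩ * k ∈ S₀.subgroupOf G' := by
          refine Subgroup.mem_subgroupOf.2 ⟨?_, ?_⟩
          · have := elat_conj (h := (k : G)⁻¹) hg.1
            rw [hkj, inv_inv] at this
            exact this
          · have := cent_conj (h := (k : G)⁻¹) hg.2
            rw [inv_smul_eq_iff.2 hku.symm, inv_inv] at this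
            exact this
        have := mul_mem (mul_mem hk (hSH hs)) (inv_mem hk)
        rwa [show k * (k⁻¹ * ⟨g, Subgroup.subset_closure hgg⟩ * k) * k⁻¹ =
          (⟨g, Subgroup.subset_closure hgg⟩ : G') by group] at this
      refine eq_top_iff.2 fun x _ => ?_
      have key : ∀ g (hg : g ∈ G'), (⟨g, hg⟩ : G') ∈ H := by
        intro g hg
        induction hg using Subgroup.closure_induction with
        | mem x hx => exact hgen x hx
        | one => exact one_mem H
        | mul a b ha hb iha ihb => exact mul_mem iha ihb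
        | inv a ha iha => exact inv_mem iha
      exact key x.1 x.2
    · intro g hg x hx hxS
      rw [Subgroup.mem_bot]
      have h1 : (g : G)⁻¹ * x * g ∈ S₀ := Subgroup.mem_subgroupOf.1 hxS
      have hA' := ax_conj (h := (g : G)) h1.1.1
      have hC' := cent_conj (h := (g : G)) h1.2
      rw [show (g : G) * ((g : G)⁻¹ * x * g) * (g : G)⁻¹ = x by group] at hA' hC'
      by_contra hx1
      rcases fix_cases hA' hC' (fun e => hx1 (Subtype.ext e)) ((hmemM x).1 hx) with h | h
      · exact hmoved g hg (point_eq (fun e : (g : G) • j₀ = l₀ => hj₀ (smul_left_cancel _ (e.trans (hl₀ g).symm)))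
          (mem_smul huj₀) h (mem_of_fix_line (hl₀ g) hu₀) hu₀)
      · exact hmoved g hg h.symm
    · intro x hx
      rw [Subgroup.mem_bot.1 hx, map_one]
    · rw [show Nat.card (Additive T) = Nat.card T from rfl, hM.card, pow_two]
    · intro s hs a ha
      refine Subtype.ext ?_
      show (s : G) * (Additive.toMul a : T).1 * (s : G)⁻¹ = (Additive.toMul a : T).1
      have hs' : (s : G) ∈ S₀ := hs
      rw [mul_inv_eq_iff_eq_mul]
      exact commute_of_ne (P := Dual L) (L := Dual P) hs'.2 ((hA a).1 ha) hs'.1.1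
        (Additive.toMul a : T).2.1 huj₀ hu₀ hj₀
    · intro s hs hs1 v hv
      rw [Subgroup.mem_bot] at hs1
      have hs' : (s : G) ∈ S₀ := hs
      have hcomm : (s : G) * (Additive.toMul v : T).1 = (Additive.toMul v : T).1 * (s : G) :=
        mul_inv_eq_iff_eq_mul.1 (congrArg (fun y : Additive T => ((Additive.toMul y : T) : G)) hv)
      set t := (Additive.toMul v : T).1
      rw [hA]
      by_cases ht1 : t = 1
      · show t ∈ Cent G (L := L) u₀
        rw [ht1]; exact one_mem _
      have ht : t ∈ T := (Additive.toMul v : T).2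
      have hto : (s : G) • t • o = t • o := by rw [← mul_smul, hcomm, mul_smul, hgo]
      have htol : t • o ∉ l₀ := not_mem_of_fix_line (ax_fix_line ht.1) ho
      have htoj : t • o ∈ j₀ := (fix_cases hs'.1.1 hs'.2 (fun e => hs1 (Subtype.ext e)) hto).resolve_right
        fun e => htol (e ▸ hu₀)
      obtain ⟨-, u, hu, htu⟩ := id ht
      obtain ⟨m, hm1, hm2⟩ := exists_line (L := L) (pt_ne hu ho).symm
      obtain rfl : j₀ = m := line_eq (elat_free ht ht1 ho).symm hoj₀ htoj hm1
        (mem_of_fix_line (htu m hm2) hm1)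
      rwa [point_eq hj₀ hm2 huj₀ hu hu₀] at htu
    · intro g hg a ha hga
      refine Subtype.ext ?_
      show (Additive.toMul a : T).1 = 1
      have h1 : (g : G) * (Additive.toMul a : T).1 * (g : G)⁻¹ ∈ Cent G (L := L) u₀ := hga
      by_contra hne
      exact hmoved g hg (cent_unique (cent_conj ((hA a).1 ha)) h1 fun e => hne (conj_eq_one_iff.1 e))
  obtain ⟨s₁, hs₁, hs₁Q⟩ := D.exists_notQ
  obtain ⟨F, _, _, R, ψ, hF, hR, hψ⟩ := D.exists_coord' hg₁ hs₁ hs₁Q
  -- the first axis
  let e1 : Fin 2 → F := ![1, 0]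
  have hAψ : ∀ v : Additive T, v ∈ A ↔ ∃ c : F, ψ v = c • e1 := by
    have hsub : ∀ v ∈ A, ψ v 1 = 0 := by
      intro v hv
      obtain ⟨s, hs, hsR⟩ := hR.exists_upper 1
      have h1 := hψ s v
      rw [D.fix s hs v hv, hsR] at h1
      have h2 := congrFun h1 0
      simp [Cfsg.Agent.NatSL2.u, Matrix.mulVec, dotProduct, Fin.sum_univ_two] at h2
      exact h2
    let f : A → F := fun v => ψ v.1 0
    have hf : Function.Bijective f := by
      refine (Nat.bijective_iff_injective_and_card f).2 ⟨fun a b h => Subtype.ext (ψ.injective ?_), ?_⟩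
      · funext i
        fin_cases i
        · exact h
        · exact (hsub a a.2).trans (hsub b b.2).symm
      · rw [hcardA, Nat.card_eq_fintype_card, hF]
    intro v
    constructor
    · intro hv
      refine ⟨ψ v 0, funext fun i => ?_⟩
      fin_cases i
      · simp [e1]
      · simpa [e1] using hsub v hv
    · rintro ⟨c, hc⟩
      obtain ⟨a, ha⟩ := hf.2 c
      have : v = a.1 := by
        refine ψ.injective (funext fun i => ?_)
        rw [hc]
        fin_cases i
        · simpa [e1, f] using ha.symm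
        · simpa [e1] using (hsub a a.2).symm
      exact this ▸ a.2
  choose γ hγ using htrans
  -- the direction of a point of `l₀`
  have hdir : ∀ (u : P) (hu : u ∈ l₀), ∀ t : T, (t : G) ∈ Cent G (L := L) u ↔
      ∃ c : F, ψ (Additive.ofMul t) = c • (R (γ u hu)).1.mulVec e1 := by
    intro u hu t
    set g := γ u hu
    have hg : (g : G) • u₀ = u := hγ u hu
    have h1 : ψ (ρ g⁻¹ (Additive.ofMul t)) = (R g⁻¹).1.mulVec (ψ (Additive.ofMul t)) := hψ _ _
    have hRR : (R g).1 * (R g⁻¹).1 = 1 := by
      rw [← Matrix.SpecialLinearGroup.coe_mul, ← map_mul, mul_inv_cancel, map_one,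
        Matrix.SpecialLinearGroup.coe_one]
    have hRR' : (R g⁻¹).1 * (R g).1 = 1 := by
      rw [← Matrix.SpecialLinearGroup.coe_mul, ← map_mul, inv_mul_cancel, map_one,
        Matrix.SpecialLinearGroup.coe_one]
    have h2 : (t : G) ∈ Cent G (L := L) u ↔ ρ g⁻¹ (Additive.ofMul t) ∈ A := by
      rw [hA, hρ]
      show _ ↔ ((g⁻¹ : G') : G) * (t : G) * ((g⁻¹ : G') : G)⁻¹ ∈ _
      rw [Subgroup.coe_inv, inv_inv]
      constructor
      · intro h
        have := cent_conj (h := (g : G)⁻¹) h
        rwa [inv_inv, inv_smul_eq_iff.2 hg.symm] at this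
      · intro h
        have := cent_conj (h := (g : G)) h
        rwa [show (g : G) * ((g : G)⁻¹ * t * g) * (g : G)⁻¹ = t by group, hg] at this
    rw [h2, hAψ, h1]
    refine exists_congr fun c => ⟨fun h => ?_, fun h => ?_⟩
    · have := congrArg (fun x => (R g).1.mulVec x) h
      simp only [Matrix.mulVec_mulVec, hRR, Matrix.one_mulVec, Matrix.mulVec_smul] at this
      exact this
    · rw [h, Matrix.mulVec_smul, Matrix.mulVec_mulVec, hRR', Matrix.one_mulVec]
  -- transfer to the lowest universe
  let e : F ≃+* Shrink.{0} F := (Shrink.ringEquiv.{0} F).symm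
  let E : (Fin 2 → F) ≃+ (Fin 2 → Shrink.{0} F) := AddEquiv.piCongrRight fun _ => e.toAddEquiv
  have hE : ∀ (c : F) (x : Fin 2 → F), E (c • x) = e c • E x := fun c x => funext fun i => map_mul e c (x i)
  letI : Fintype (Shrink.{0} F) := Fintype.ofEquiv F e.toEquiv
  refine ⟨Shrink.{0} F, inferInstance, inferInstance, ψ.trans E,
    fun u => if hu : u ∈ l₀ then E ((R (γ u hu)).1.mulVec e1) else 0, ?_, fun u hu => ⟨?_, fun t => ?_⟩⟩
  · rw [Fintype.card_congr e.symm.toEquiv, hF]
  · simp only [dif_pos hu]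
    intro h
    have h1 : (R (γ u hu)).1.mulVec e1 = 0 := E.injective (h.trans (map_zero E).symm)
    have h2 := congrArg (fun x => (R (γ u hu)⁻¹).1.mulVec x) h1
    simp only [Matrix.mulVec_mulVec, Matrix.mulVec_zero, ← Matrix.SpecialLinearGroup.coe_mul, ← map_mul,
      inv_mul_cancel, map_one, Matrix.SpecialLinearGroup.coe_one, Matrix.one_mulVec] at h2
    exact one_ne_zero (congrFun h2 0 : (1 : F) = 0)
  · simp only [dif_pos hu, hdir u hu t, AddEquiv.trans_apply]
    constructor
    · rintro ⟨c, hc⟩; exact ⟨e c, by rw [hc, hE]⟩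
    · rintro ⟨c, hc⟩; exact ⟨e.symm c, E.injective (by rw [hc, hE, e.apply_symm_apply])⟩

/-- The plane is Desarguesian. -/
theorem exists_coordinates :
    ∃ (F : Type) (_ : Field F) (_ : Fintype F) (φ : P ≃ ℙ F (Fin 3 → F)),
      (∀ l : L, ∃ W : Submodule F (Fin 3 → F), Module.finrank F W = 2 ∧
          ∀ p : P, p ∈ l ↔ (φ p).submodule ≤ W) ∧
      (∀ W : Submodule F (Fin 3 → F), Module.finrank F W = 2 →
          ∃ l : L, ∀ p : P, p ∈ l ↔ (φ p).submodule ≤ W) := by
  classical
  obtain ⟨-, -, -, l₀, -⟩ := ProjectivePlane.exists_config (P := P) (L := L)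
  obtain ⟨o, ho⟩ := Nondegenerate.exists_point (P := P) l₀
  set T := Elat G (P := P) l₀
  obtain ⟨F, _, _, ψ, w, hF, hw⟩ := hM.exists_spread_coord ho
  choose tr htrT htro using fun q (hq : q ∉ l₀) => hM.translate ho hq
  let pos : ∀ q, q ∉ l₀ → (Fin 2 → F) := fun q hq => ψ (Additive.ofMul ⟨tr q hq, htrT q hq⟩)
  let vec : P → Fin 3 → F := fun p =>
    if h : p ∈ l₀ then ![w p 0, w p 1, 0] else ![pos p h 0, pos p h 1, 1]
  have hvec_on : ∀ p, p ∈ l₀ → vec p = ![w p 0, w p 1, 0] := fun p hp => dif_pos hp
  have hvec_off : ∀ p (hp : p ∉ l₀), vec p = ![pos p hp 0, pos p hp 1, 1] := fun p hp => dif_neg hp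
  have hvec0 : ∀ p, vec p ≠ 0 := by
    intro p h
    by_cases hp : p ∈ l₀
    · rw [hvec_on p hp] at h
      refine (hw p hp).1 (funext fun i => ?_)
      fin_cases i
      · exact congrFun h 0
      · exact congrFun h 1
    · rw [hvec_off p hp] at h
      exact one_ne_zero (congrFun h 2 : (1 : F) = 0)
  -- directions of different points are independent
  have hdir : ∀ {u u' : P} (c : F), u ∈ l₀ → u' ∈ l₀ → w u' = c • w u → u' = u := by
    intro u u' c hu hu' he
    have hcard : 1 < Nat.card ↥(T ⊓ Cent G (L := L) u') := by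
      rw [hM.card_at l₀ u' hu']; exact two_le_order
    haveI := Finite.one_lt_card_iff_nontrivial.1 hcard
    obtain ⟨e, he1⟩ := exists_ne (1 : ↥(T ⊓ Cent G (L := L) u'))
    obtain ⟨a, ha⟩ := ((hw u' hu').2 ⟨e, e.2.1⟩).1 e.2.2
    have : (e : G) ∈ Cent G (L := L) u := ((hw u hu).2 ⟨e, e.2.1⟩).2 ⟨a * c, by rw [ha, he, smul_smul]⟩
    exact cent_unique e.2.2 this fun h => he1 (Subtype.ext h)
  have hinj : Function.Injective fun p => Projectivization.mk F (vec p) (hvec0 p) := by
    intro p q h
    obtain ⟨c, hc⟩ := (Projectivization.mk_eq_mk_iff' F _ _ _ _).1 h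
    by_cases hp : p ∈ l₀ <;> by_cases hq : q ∈ l₀
    · rw [hvec_on p hp, hvec_on q hq] at hc
      refine hdir c hq hp (funext fun i => ?_)
      fin_cases i
      · exact (congrFun hc 0).symm
      · exact (congrFun hc 1).symm
    · rw [hvec_on p hp, hvec_off q hq] at hc
      obtain rfl : c = 0 := by simpa using congrFun hc 2
      rw [zero_smul] at hc
      exact absurd ((hvec_on p hp).trans hc.symm) (hvec0 p)
    · rw [hvec_off p hp, hvec_on q hq] at hc
      exact absurd (congrFun hc 2) (by simp)
    · rw [hvec_off p hp, hvec_off q hq] at hc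
      obtain rfl : c = 1 := by simpa using congrFun hc 2
      rw [one_smul] at hc
      have h2 : pos p hp = pos q hq := funext fun i => by
        fin_cases i
        · exact (congrFun hc 0).symm
        · exact (congrFun hc 1).symm
      have h3 : tr p hp = tr q hq := congrArg (fun y : Additive T => ((Additive.toMul y : T) : G)) (ψ.injective h2)
      rw [← htro p hp, ← htro q hq, h3]
  have hcard : Nat.card P = Nat.card (ℙ F (Fin 3 → F)) := by
    rw [card_plane (L := L), Projectivization.card_of_finrank F (Fin 3 → F) (n := 3) (by simp),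
      Nat.card_eq_fintype_card, hF]
    simp [Finset.sum_range_succ]
    ring
  let φ : P ≃ ℙ F (Fin 3 → F) := Equiv.ofBijective _
    ((Nat.bijective_iff_injective_and_card _).2 ⟨hinj, hcard⟩)
  have hφ : ∀ (p : P) (W : Submodule F (Fin 3 → F)), (φ p).submodule ≤ W ↔ vec p ∈ W := fun p W => by
    show (Projectivization.mk F (vec p) (hvec0 p)).submodule ≤ W ↔ _
    rw [Projectivization.submodule_mk, Submodule.span_singleton_le_iff_mem]
  have hlines : ∀ l : L, ∃ W : Submodule F (Fin 3 → F), Module.finrank F W = 2 ∧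
      ∀ p : P, p ∈ l ↔ (φ p).submodule ≤ W := by
    intro l
    by_cases hl : l = l₀
    · subst hl
      obtain ⟨a, ha⟩ := exists_point_mem (P := P) l
      refine ⟨Submodule.span F (Set.range ![![1, 0, 0], ![0, 1, 0]]), ?_, fun p => ?_⟩
      · rw [finrank_span_eq_card, Fintype.card_fin]
        rw [linearIndependent_fin2]
        refine ⟨fun h => one_ne_zero (congrFun h 1 : (1 : F) = 0), fun c h => ?_⟩
        exact one_ne_zero (by simpa using (congrFun h 0).symm : (1 : F) = 0)
      · rw [hφ, Submodule.mem_span_range_iff_exists_fun]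
        constructor
        · intro hp
          refine ⟨![w p 0, w p 1], ?_⟩
          rw [hvec_on p hp]
          funext i; fin_cases i <;> simp [Fin.sum_univ_two]
        · rintro ⟨c, hc⟩
          by_contra hp
          rw [hvec_off p hp] at hc
          have := congrFun hc 2
          simp [Fin.sum_univ_two] at this
    · obtain ⟨u, hul, hu⟩ := exists_meet (P := P) hl
      obtain ⟨q, hq, hqu, -⟩ := exists_mem_ne l u u
      have hql : q ∉ l₀ := fun h => hqu (point_eq hl hq hul h hu)
      set a : Fin 3 → F := ![pos q hql 0, pos q hql 1, 1]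
      set b : Fin 3 → F := ![w u 0, w u 1, 0]
      refine ⟨Submodule.span F (Set.range ![a, b]), ?_, fun p => ?_⟩
      · rw [finrank_span_eq_card, Fintype.card_fin]
        rw [linearIndependent_fin2]
        refine ⟨fun h => hvec0 u ((hvec_on u hu).trans h), fun c h => ?_⟩
        exact one_ne_zero (by simpa [a, b] using (congrFun h 2).symm : (1 : F) = 0)
      · rw [hφ, Submodule.mem_span_range_iff_exists_fun]
        simp only [Fin.sum_univ_two]
        by_cases hp : p ∈ l₀
        · rw [hvec_on p hp]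
          constructor
          · intro hpl
            obtain rfl := point_eq hl hpl hul hp hu
            exact ⟨![0, 1], by simp [b]⟩
          · rintro ⟨c, hc⟩
            have h0 : c 0 = 0 := by simpa [a, b] using congrFun hc 2
            have : p = u := hdir (c 1) hu hp (funext fun i => by
              fin_cases i
              · simpa [a, b, h0] using (congrFun hc 0).symm
              · simpa [a, b, h0] using (congrFun hc 1).symm)
            exact this ▸ hul
        · rw [hvec_off p hp]
          set tq : T := ⟨tr q hql, htrT q hql⟩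
          set tp : T := ⟨tr p hp, htrT p hp⟩
          have hdiff : ψ (Additive.ofMul (tp * tq⁻¹)) = pos p hp - pos q hql := by
            rw [ofMul_mul, ofMul_inv, map_add, map_neg, sub_eq_add_neg]
          have hmove : ((tp * tq⁻¹ : T) : G) • q = p := by
            show (tr p hp * (tr q hql)⁻¹) • q = p
            rw [mul_smul, inv_smul_eq_iff.2 (htro q hql).symm, htro]
          constructor
          · intro hpl
            have hC : ((tp * tq⁻¹ : T) : G) ∈ Cent G (L := L) u := by
              obtain ⟨-, v, hv, hev⟩ := (tp * tq⁻¹ : T).2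
              by_cases he : ((tp * tq⁻¹ : T) : G) = 1
              · rw [he]; exact one_mem _
              obtain ⟨m, hm1, hm2⟩ := exists_line (L := L) (pt_ne hv hql).symm
              have hpm : p ∈ m := hmove ▸ mem_of_fix_line (hev m hm2) hm1
              have hne : q ≠ p := fun h => elat_free (tp * tq⁻¹ : T).2 he hql (hmove.trans h.symm)
              obtain rfl : m = l := line_eq hne hm1 hpm hq hpl
              rwa [point_eq hl hm2 hul hv hu] at hev
            obtain ⟨c, hc⟩ := ((hw u hu).2 _).1 hC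
            rw [hdiff] at hc
            refine ⟨![1, c], funext fun i => ?_⟩
            have h0 := congrFun hc 0
            have h1 := congrFun hc 1
            simp only [Pi.sub_apply, Pi.smul_apply, smul_eq_mul, sub_eq_iff_eq_add] at h0 h1
            fin_cases i
            · simp [a, b, h0, add_comm]
            · simp [a, b, h1, add_comm]
            · simp [a, b]
          · rintro ⟨c, hc⟩
            have h0 : c 0 = 1 := by simpa [a, b] using congrFun hc 2
            have hC : ((tp * tq⁻¹ : T) : G) ∈ Cent G (L := L) u := by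
              refine ((hw u hu).2 _).2 ⟨c 1, ?_⟩
              rw [hdiff]
              funext i
              fin_cases i
              · have := congrFun hc 0
                simp [a, b, h0] at this
                simp [← this]
              · have := congrFun hc 1
                simp [a, b, h0] at this
                simp [← this]
            exact hmove ▸ mem_of_fix_line (hC l hul) hq
  refine ⟨F, inferInstance, inferInstance, φ, hlines, fun W hW => ?_⟩
  have hne : W ≠ ⊥ := fun h => by rw [h, finrank_bot] at hW; omega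
  obtain ⟨a, ha, ha0⟩ := W.exists_mem_ne_zero_of_ne_bot hne
  obtain ⟨b, hb, hba⟩ : ∃ b ∈ W, b ∉ Submodule.span F {a} := by
    refine SetLike.not_le_iff_exists.1 fun h => ?_
    have := Submodule.finrank_mono h
    rw [hW, finrank_span_singleton ha0] at this
    omega
  have hb0 : b ≠ 0 := fun h => hba (h ▸ zero_mem _)
  set p := φ.symm (Projectivization.mk F a ha0)
  set q := φ.symm (Projectivization.mk F b hb0)
  have hpq : p ≠ q := fun h => by
    have := φ.symm.injective h
    obtain ⟨c, hc⟩ := (Projectivization.mk_eq_mk_iff' F _ _ _ _).1 this.symm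
    exact hba (hc ▸ Submodule.smul_mem _ c (Submodule.mem_span_singleton_self a))
  obtain ⟨l, hl1, hl2⟩ := exists_line (L := L) hpq
  obtain ⟨W', hW', hW'l⟩ := hlines l
  have hp' := (hW'l p).1 hl1
  have hq' := (hW'l q).1 hl2
  rw [φ.apply_symm_apply, Projectivization.submodule_mk, Submodule.span_singleton_le_iff_mem] at hp' hq'
  have hspan : Module.finrank F ↥(Submodule.span F (Set.range ![a, b])) = 2 := by
    rw [finrank_span_eq_card, Fintype.card_fin]
    rw [linearIndependent_fin2]
    refine ⟨hb0, fun c h => hba ?_⟩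
    rcases eq_or_ne c 0 with rfl | hc
    · exact absurd (by simpa using h.symm) ha0
    · exact Submodule.mem_span_singleton.2 ⟨c⁻¹, by
        simp only [Matrix.cons_val_zero, Matrix.cons_val_one] at h
        rw [← h, smul_smul, inv_mul_cancel₀ hc, one_smul]⟩
  have hle : ∀ V : Submodule F (Fin 3 → F), a ∈ V → b ∈ V → Module.finrank F V = 2 →
      Submodule.span F (Set.range ![a, b]) = V := fun V hVa hVb hV =>
    Submodule.eq_of_le_of_finrank_eq (Submodule.span_le.2 (by
      rintro _ ⟨i, rfl⟩
      fin_cases i <;> assumption)) (hspan.trans hV.symm)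
  exact ⟨l, fun z => (hW'l z).trans (by rw [← hle W' hp' hq' hW', hle W ha hb hW])⟩

end Moufang

end Cfsg.Agent.Lie.OW
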