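import Cfsg.Agent.Lib.Lie.OstromWagner.Perspectivity
import Mathlib.Algebra.IsPrimePow

/-!
# Planes with many involutory homologies have prime-power order

If for every flag `(x, l)` and point `p` off `l` some involutory homology fixes all three, the order of the
(odd order) plane is a prime power: some elation group of order divisible by `n` has prime exponent.
-/

set_option autoImplicit false

namespace Cfsg.Agent.Lie.OW

open Configuration MulAction

universe u v w

variable {G : Type w} [Group G] {P : Type u} {L : Type v} [Membership P L] [MulAction G P] [MulAction G L]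

/-- An involutory homology with axis `a` and centre `c`. -/
def Hom (h : G) (a : L) (c : P) : Prop :=
  h * h = 1 ∧ h ≠ 1 ∧ h ∈ Ax G (P := P) a ∧ h ∈ Cent G (L := L) c ∧ c ∉ a

variable (L) in
/-- An involutory homology fixes exactly `x` and `p` on their line. -/
def Exact (G : Type w) [Group G] [MulAction G P] [MulAction G L] (x p : P) : Prop :=
  ∃ (h : G) (a : L) (c : P), Hom h a c ∧ ((c = x ∧ p ∈ a) ∨ (c = p ∧ x ∈ a))

/-- Every line, point on it and point off it are fixed by an involutory homology. -/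
def HomHyp (G : Type w) (P : Type u) (L : Type v) [Membership P L] [Group G] [MulAction G P]
    [MulAction G L] : Prop :=
  ∀ (p x : P) (l : L), x ∈ l → p ∉ l →
    ∃ (h : G) (a : L) (c : P), Hom h a c ∧ h • p = p ∧ h • x = x ∧ h • l = l

variable [Acts G P L] [ProjectivePlane P L] [Fintype P] [Fintype L] [FaithfulSMul G P]

local notation "n" => ProjectivePlane.order P L

theorem dichotomy (hyp : HomHyp G P L) {x p : P} {l : L} (hx : x ∈ l) (hp : p ∈ l) (hne : x ≠ p) :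
    Exact L G x p ∨ ∀ j : L, x ∈ j → j ≠ l → ∃ (h : G) (c : P), Hom h l c ∧ c ∈ j := by
  refine or_iff_not_imp_left.2 fun hne' j hj hjl => ?_
  have hpj : p ∉ j := fun h => hjl (line_eq hne hj h hx hp)
  obtain ⟨h, a, c, hH, h1, h2, h3⟩ := hyp p x j hj hpj
  obtain ⟨hh, h1', hA, hC, hca⟩ := hH
  rcases fix_cases hA hC h1' h1 with hpa | rfl <;> rcases fix_cases hA hC h1' h2 with hxa | rfl
  · obtain rfl : a = l := line_eq hne hxa hpa hx hp
    refine ⟨h, c, ⟨hh, h1', hA, hC, hca⟩, ?_⟩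
    exact (line_cases hA hC h1' h3).resolve_right hjl
  · exact absurd ⟨h, a, x, ⟨hh, h1', hA, hC, hca⟩, Or.inl ⟨rfl, hpa⟩⟩ hne'
  · exact absurd ⟨h, a, p, ⟨hh, h1', hA, hC, hca⟩, Or.inr ⟨rfl, hxa⟩⟩ hne'
  · exact absurd rfl hne

omit [FaithfulSMul G P] in
theorem exact_fix_line {h : G} {a : L} {c : P} (hH : Hom h a c) {l : L} (hc : c ∈ l) : h • l = l :=
  hH.2.2.2.1 l hc

/-- If all pairs on `l` are exact, the stabilizer of `l` is transitive on it. -/
theorem trans_of_exact {l : L} (hex : ∀ x p : P, x ∈ l → p ∈ l → x ≠ p → Exact L G x p)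
    {x y : P} (hx : x ∈ l) (hy : y ∈ l) : ∃ g : G, g • l = l ∧ g • x = y := by
  classical
  -- the involution of a pair
  have inv : ∀ a b : P, a ∈ l → b ∈ l → a ≠ b →
      ∃ h : G, h • l = l ∧ h * h = 1 ∧ h • a = a ∧ h • b = b ∧ ∀ q, q ∈ l → h • q = q → q = a ∨ q = b := by
    intro a b ha hb hab
    obtain ⟨h, A, c, hH, hcases⟩ := hex a b ha hb hab
    have hcl : c ∈ l := by rcases hcases with ⟨rfl, -⟩ | ⟨rfl, -⟩ <;> assumption
    refine ⟨h, exact_fix_line hH hcl, hH.1, ?_, ?_, fun q hq hhq => ?_⟩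
    · rcases hcases with ⟨rfl, -⟩ | ⟨-, ha'⟩
      · exact cent_fix hH.2.2.2.1
      · exact hH.2.2.1 a ha'
    · rcases hcases with ⟨-, hb'⟩ | ⟨rfl, -⟩
      · exact hH.2.2.1 b hb'
      · exact cent_fix hH.2.2.2.1
    · have hAl : A ≠ l := fun e => hH.2.2.2.2 (e ▸ hcl)
      rcases fix_cases hH.2.2.1 hH.2.2.2.1 hH.2.1 hhq with hqA | rfl
      · rcases hcases with ⟨-, hb'⟩ | ⟨-, ha'⟩
        · exact Or.inr (point_eq hAl hqA hb' hq hb)
        · exact Or.inl (point_eq hAl hqA ha' hq ha)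
      · rcases hcases with ⟨rfl, -⟩ | ⟨rfl, -⟩
        · exact Or.inl rfl
        · exact Or.inr rfl
  let O : P → Finset P := fun a => Finset.univ.filter fun q => ∃ g : G, g • l = l ∧ g • a = q
  have hO : ∀ a q, q ∈ O a ↔ ∃ g : G, g • l = l ∧ g • a = q := fun a q => by simp [O]
  have hself : ∀ a, a ∈ O a := fun a => (hO a a).2 ⟨1, one_smul _ _, one_smul _ _⟩
  have hOl : ∀ a, a ∈ l → ∀ q ∈ O a, q ∈ l := fun a ha q hq => by
    obtain ⟨g, g1, g2⟩ := (hO a q).1 hq
    exact g2 ▸ mem_of_fix_line g1 ha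
  -- parity
  have par : ∀ a, a ∈ l → ∀ h : G, h • l = l → h * h = 1 →
      Even ((O a).filter fun q => ¬ h • q = q).card := by
    intro a ha h hl hh
    have hmem : ∀ q, (q ∈ O a ∧ ¬ h • q = q) → (h • q ∈ O a ∧ ¬ h • h • q = h • q) := fun q hq => by
      obtain ⟨g, g1, g2⟩ := (hO a q).1 hq.1
      refine ⟨(hO a _).2 ⟨h * g, by rw [mul_smul, g1, hl], by rw [mul_smul, g2]⟩, ?_⟩
      rw [← mul_smul h h, hh, one_smul]
      exact fun e => hq.2 e.symm
    have := even_card_of_involution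
      (fun q : {q : P // q ∈ O a ∧ ¬ h • q = q} =>
        (⟨h • q.1, hmem q.1 q.2⟩ : {q : P // q ∈ O a ∧ ¬ h • q = q}))
      (fun q => Subtype.ext (show h • h • q.1 = q.1 by rw [← mul_smul, hh, one_smul]))
      (fun q hq => q.2.2 (congrArg Subtype.val hq))
    rw [Fintype.card_subtype] at this
    convert this using 2
    ext q
    simp
  -- an orbit which is not everything is a single point
  have single : ∀ a b, a ∈ l → b ∈ l → b ∉ O a → ∀ q ∈ O a, q = a := by
    intro a b ha hb hbO q hq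
    by_contra hqa
    obtain ⟨h, hl, hh, hha, hhq, hfix⟩ := inv a q ha (hOl a ha q hq) (Ne.symm hqa)
    obtain ⟨h', hl', hh', hha', hhb', hfix'⟩ := inv a b ha hb (fun e => hbO (e ▸ hself a))
    have e1 := par a ha h hl hh
    have e2 := par a ha h' hl' hh'
    have c1 : (O a).filter (fun z => ¬ h • z = z) = O a \ {a, q} := by
      ext z
      simp only [Finset.mem_filter, Finset.mem_sdiff, Finset.mem_insert, Finset.mem_singleton]
      refine and_congr_right fun hz => not_congr ⟨hfix z (hOl a ha z hz), ?_⟩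
      rintro (rfl | rfl) <;> assumption
    have c2 : (O a).filter (fun z => ¬ h' • z = z) = O a \ {a} := by
      ext z
      simp only [Finset.mem_filter, Finset.mem_sdiff, Finset.mem_singleton]
      refine and_congr_right fun hz => not_congr ⟨fun e => ?_, fun e => by rw [e]; exact hha'⟩
      rcases hfix' z (hOl a ha z hz) e with e | e
      · exact e
      · exact absurd (e ▸ hz) hbO
    rw [c1, Finset.card_sdiff_of_subset (by simp [Finset.insert_subset_iff, hself a, hq]),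
      Finset.card_pair (Ne.symm hqa)] at e1
    rw [c2, Finset.card_sdiff_of_subset (by simp [hself a]), Finset.card_singleton] at e2
    have : 1 < (O a).card := Finset.one_lt_card.2 ⟨a, hself a, q, hq, Ne.symm hqa⟩
    rw [Nat.even_iff] at e1 e2
    omega
  by_contra hcon
  have hyO : y ∉ O x := fun h => hcon ((hO x y).1 h)
  obtain ⟨z, hz, hzx, hzy⟩ := exists_mem_ne l x y
  have hxy : x ≠ y := fun e => hyO (e ▸ hself x)
  obtain ⟨h, hl, -, -, -, hfix⟩ := inv y z hy hz hzy.symm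
  rcases hfix x hx (single x y hx hy hyO _ ((hO x _).2 ⟨h, hl, rfl⟩)) with e | e
  · exact hxy e
  · exact hzx e.symm

variable [Finite G]

/-- Centres on every line through `x` make the elation group transitive on these lines. -/
theorem elat_card_of_cover {l : L} {x : P} (hx : x ∈ l)
    (hcov : ∀ j : L, x ∈ j → j ≠ l → ∃ (h : G) (c : P), Hom h l c ∧ c ∈ j) :
    Nat.card (Elat G (P := P) l) = n * Nat.card ↥(Elat G (P := P) l ⊓ Cent G (L := L) x) := by
  classical
  set E := Elat G (P := P) l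
  obtain ⟨t, ht0, htn, ht⟩ := elat_index_dvd (G := G) hx
  suffices n ≤ t by rw [ht, le_antisymm (Nat.le_of_dvd (by have := two_le_order (P := P) (L := L); omega) htn) this]
  choose h c hH hc using hcov
  obtain ⟨j₀, hj₀, hj₀l, -⟩ := exists_line_ne x l l
  set h₀ := h j₀ hj₀ hj₀l
  have hmem : ∀ j hj hjl, h₀ * h j hj hjl ∈ E := by
    intro j hj hjl
    obtain ⟨a1, a2, a3, a4, a5⟩ := hH j₀ hj₀ hj₀l
    obtain ⟨b1, b2, b3, b4, b5⟩ := hH j hj hjl
    by_cases hcc : c j₀ hj₀ hj₀l = c j hj hjl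
    · have hjj : j = j₀ := by
        by_contra hne
        exact b5 (point_eq hne (hc j hj hjl) hj (hcc ▸ hc j₀ hj₀ hj₀l) hj₀ ▸ hx)
      subst hjj
      exact a1 ▸ one_mem E
    · exact (homology_mul a3 b3 a4 b4 a1 b1 a2 b2 b5 a5 hcc).1
  let Ex := (E ⊓ Cent G (L := L) x).subgroupOf E
  let f : {j : L // x ∈ j ∧ j ≠ l} → E ⧸ Ex := fun j => QuotientGroup.mk ⟨_, hmem j.1 j.2.1 j.2.2⟩
  have hf : Function.Injective f := by
    rintro ⟨j, hj, hjl⟩ ⟨k, hk, hkl⟩ e
    have e' := (QuotientGroup.eq.1 e)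
    have hfix : (h₀ * h j hj hjl)⁻¹ * (h₀ * h k hk hkl) ∈ Cent G (L := L) x := e'.2
    have h1 := hfix j hj
    rw [show (h₀ * h j hj hjl)⁻¹ * (h₀ * h k hk hkl) = (h j hj hjl)⁻¹ * h k hk hkl by group, mul_smul,
      inv_smul_eq_iff, (hH j hj hjl).2.2.2.1 j (hc j hj hjl)] at h1
    obtain ⟨b1, b2, b3, b4, b5⟩ := hH k hk hkl
    rcases line_cases b3 b4 b2 h1 with h' | h'
    · refine Subtype.ext ?_
      by_contra hne
      exact b5 (point_eq hne h' hj (hc k hk hkl) hk ▸ hx)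
    · exact absurd h' hjl
  have hcard : Nat.card {j : L // x ∈ j ∧ j ≠ l} = n := by
    have h := card_pencil (L := L) x
    rw [Nat.card_eq_fintype_card, Fintype.card_subtype] at h ⊢
    rw [← Finset.filter_filter, Finset.filter_ne', Finset.card_erase_of_mem (by simp [hx]), h]
    omega
  have hle := Nat.card_le_card_of_injective f hf
  rw [hcard] at hle
  refine hle.trans (le_of_eq ?_)
  have h1 := Ex.card_mul_index
  rw [Nat.card_congr (Subgroup.subgroupOfEquivOfLe (inf_le_left : E ⊓ Cent G (L := L) x ≤ E)).toEquiv,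
    ht, mul_comm t] at h1
  exact Nat.eq_of_mul_eq_mul_left Nat.card_pos h1

omit [Fintype P] [Fintype L] [FaithfulSMul G P] [ProjectivePlane P L] [MulAction G P] [MulAction G L]
  [Acts G P L] [Membership P L] in
theorem isPrimePow_of_dvd {E : Subgroup G} {r N : ℕ} (hr : r.Prime) (hexp : ∀ g ∈ E, g ^ r = 1)
    (hN : 1 < N) (hdvd : N ∣ Nat.card E) : IsPrimePow N := by
  haveI := Fact.mk hr
  have hp : IsPGroup r E := fun g => ⟨1, Subtype.ext (by simpa using hexp g g.2)⟩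
  obtain ⟨j, hj⟩ := IsPGroup.iff_card.1 hp
  rw [hj] at hdvd
  obtain ⟨i, -, rfl⟩ := (Nat.dvd_prime_pow hr).1 hdvd
  exact (isPrimePow_nat_iff _).2 ⟨r, i, hr, Nat.pos_of_ne_zero (fun h => by simp [h] at hN), rfl⟩

/-- An axis with two centres. -/
theorem exists_two_centres (hyp : HomHyp G P L) (hodd : Odd n) :
    ∃ (l : L) (h h' : G) (c c' : P), Hom h l c ∧ Hom h' l c' ∧ c ≠ c' := by
  by_contra hcon
  push Not at hcon
  obtain ⟨p₀, x₀, -, l₀, -⟩ := ProjectivePlane.exists_config (P := P) (L := L)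
  obtain ⟨q, hq⟩ := Nondegenerate.exists_point (P := P) l₀
  obtain ⟨x, hx⟩ := exists_point_mem (P := P) l₀
  obtain ⟨h₀, l, c, hH₀, -⟩ := hyp q x l₀ hx hq
  -- all pairs on `l` are exact, and the axis passes through `c`
  let R : P → P → Prop := fun x p => ∃ (h : G) (a : L), Hom h a x ∧ c ∈ a ∧ p ∈ a
  have key : ∀ x p : P, x ∈ l → p ∈ l → x ≠ p → R x p ∨ R p x := by
    intro x p hx hp hne
    rcases dichotomy hyp hx hp hne with ⟨h, a, d, hH, hcases⟩ | hcov
    · have hdl : d ∈ l := by rcases hcases with ⟨rfl, -⟩ | ⟨rfl, -⟩ <;> assumption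
      have hhl : h • l = l := exact_fix_line hH hdl
      have hconj : Hom (h * h₀ * h⁻¹) l (h • c) := by
        refine ⟨?_, ?_, ?_, cent_conj hH₀.2.2.2.1, ?_⟩
        · rw [show h * h₀ * h⁻¹ * (h * h₀ * h⁻¹) = h * (h₀ * h₀) * h⁻¹ by group, hH₀.1]; group
        · exact fun e => hH₀.2.1 (conj_eq_one_iff.1 e)
        · have := ax_conj (h := h) hH₀.2.2.1
          rwa [hhl] at this
        · have := not_mem_smul (g := h) hH₀.2.2.2.2
          rwa [hhl] at this
      have hca : c ∈ a := (fix_cases hH.2.2.1 hH.2.2.2.1 hH.2.1 (hcon l _ h₀ _ c hconj hH₀)).resolve_right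
        fun e => hH₀.2.2.2.2 (e ▸ hdl)
      rcases hcases with ⟨rfl, hpa⟩ | ⟨rfl, hxa⟩
      · exact Or.inl ⟨h, a, hH, hca, hpa⟩
      · exact Or.inr ⟨h, a, hH, hca, hxa⟩
    · obtain ⟨j, hj, hjl, -⟩ := exists_line_ne x l l
      obtain ⟨j', hj', hjl', hjj⟩ := exists_line_ne x l j
      obtain ⟨h1, c1, hH1, hc1⟩ := hcov j hj hjl
      obtain ⟨h2, c2, hH2, hc2⟩ := hcov j' hj' hjl'
      have := hcon l h1 h2 c1 c2 hH1 hH2
      subst this
      exact absurd (point_eq hjj hc2 hj' hc1 hj ▸ hx) hH1.2.2.2.2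
  have uniq : ∀ x x' p : P, x ≠ x' → p ∈ l → R x p → R x' p → False := by
    rintro x x' p hne hp ⟨h, a, hH, hca, hpa⟩ ⟨h', a', hH', hca', hpa'⟩
    obtain rfl : a = a' := line_eq (pt_ne hp hH₀.2.2.2.2) hpa hca hpa' hca'
    exact hne (hcon a h h' x x' hH hH')
  -- four points
  classical
  have h3 : 3 ≤ n := by
    have := two_le_order (P := P) (L := L)
    rcases hodd with ⟨m, hm⟩
    omega
  obtain ⟨s, hs⟩ : ∃ s : Finset P, s.card = 4 ∧ ∀ z ∈ s, z ∈ l := by
    have hc := card_line (P := P) l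
    rw [Nat.card_eq_fintype_card, Fintype.card_subtype] at hc
    obtain ⟨s, hs1, hs2⟩ := Finset.exists_subset_card_eq
      (s := Finset.univ.filter fun z : P => z ∈ l) (show 4 ≤ _ by omega)
    exact ⟨s, hs2, fun z hz => (Finset.mem_filter.1 (hs1 hz)).2⟩
  obtain ⟨a, ha⟩ := Finset.card_pos.1 (show 0 < s.card by omega)
  obtain ⟨b, d, e, hbd, hbe, hde, hs'⟩ := Finset.card_eq_three.1 (show (s.erase a).card = 3 by
    rw [Finset.card_erase_of_mem ha, hs.1])
  have mb : b ≠ a ∧ b ∈ s := Finset.mem_erase.1 (by rw [hs']; simp)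
  have md : d ≠ a ∧ d ∈ s := Finset.mem_erase.1 (by rw [hs']; simp)
  have me : e ≠ a ∧ e ∈ s := Finset.mem_erase.1 (by rw [hs']; simp)
  have la := hs.2 a ha
  have lb := hs.2 b mb.2
  have ld := hs.2 d md.2
  have le' := hs.2 e me.2
  have pair : ∀ z z' : P, z ≠ z' → z ∈ l → z' ∈ l → z ≠ a → z' ≠ a → R a z → R a z' → False := by
    intro z z' hne hz hz' hza hz'a h1 h2
    rcases key z z' hz hz' hne with h | h
    · exact uniq a z z' hza.symm hz' h2 h
    · exact uniq a z' z hz'a.symm hz h1 h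
  rcases key a b la lb mb.1.symm with hb | hb <;> rcases key a d la ld md.1.symm with hd | hd <;>
    rcases key a e la le' me.1.symm with he | he
  all_goals first
    | exact pair b d hbd lb ld mb.1 md.1 hb hd
    | exact pair b e hbe lb le' mb.1 me.1 hb he
    | exact pair d e hde ld le' md.1 me.1 hd he
    | exact uniq b d a hbd la hb hd
    | exact uniq b e a hbe la hb he
    | exact uniq d e a hde la hd he

/-- The order is a prime power. -/
theorem order_isPrimePow (hyp : HomHyp G P L) (hodd : Odd n) : IsPrimePow n := by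
  classical
  have h3 : 3 ≤ n := by
    have := two_le_order (P := P) (L := L)
    rcases hodd with ⟨m, hm⟩
    omega
  obtain ⟨l, h, h', c, c', hH, hH', hcc⟩ := exists_two_centres hyp hodd
  set E := Elat G (P := P) l
  obtain ⟨heE, he1⟩ := homology_mul hH.2.2.1 hH'.2.2.1 hH.2.2.2.1 hH'.2.2.2.1 hH.1 hH'.1 hH.2.1
    hH'.2.1 hH'.2.2.2.2 hH.2.2.2.2 hcc
  have hEne : E ≠ ⊥ := fun e => he1 (by rw [← Subgroup.mem_bot, ← e]; exact heE)
  by_cases hex : ∀ x p : P, x ∈ l → p ∈ l → x ≠ p → Exact L G x p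
  · -- transitive on `l`: all centres
    have htr := fun (x y : P) (hx : x ∈ l) (hy : y ∈ l) => trans_of_exact hex hx hy
    obtain ⟨hA, u, hu, heu⟩ := heE
    have htwo : ∀ z : P, ¬ E ≤ Cent G (L := L) z := by
      intro z hz
      have hzu : z = u := cent_unique (hz ⟨hA, u, hu, heu⟩) heu he1
      subst hzu
      obtain ⟨w, hw, hwz, -⟩ := exists_mem_ne l z z
      obtain ⟨g, g1, g2⟩ := htr z w hu hw
      have h1 : g * (h * h') * g⁻¹ ∈ E := by
        have := elat_conj (h := g) (show h * h' ∈ E from ⟨hA, z, hu, heu⟩)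
        rwa [g1] at this
      have h2 := cent_conj (h := g) heu
      rw [g2] at h2
      exact hwz (cent_unique h2 (hz h1) fun e => he1 (conj_eq_one_iff.1 e))
    obtain ⟨r, hr, hexp, -⟩ := exists_prime_exponent le_rfl hEne htwo
    set s := Nat.card ↥(E ⊓ Cent G (L := L) u)
    have hs : ∀ z, z ∈ l → Nat.card ↥(E ⊓ Cent G (L := L) z) = s := by
      intro z hz
      obtain ⟨g, g1, g2⟩ := htr u z hu hz
      refine (Nat.card_congr
        { toFun := fun x => ⟨g * x.1 * g⁻¹, by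
            have := elat_conj (h := g) x.2.1
            rwa [g1] at this, g2 ▸ cent_conj x.2.2⟩
          invFun := fun x => ⟨g⁻¹ * x.1 * g, by
            have := elat_conj (h := g⁻¹) x.2.1
            rwa [inv_smul_eq_iff.2 g1.symm, inv_inv] at this, by
            have := cent_conj (h := g⁻¹) x.2.2
            rwa [inv_smul_eq_iff.2 g2.symm, inv_inv] at this⟩
          left_inv := fun x => Subtype.ext (show g⁻¹ * (g * x.1 * g⁻¹) * g = x.1 by group)
          right_inv := fun x => Subtype.ext (show g * (g⁻¹ * x.1 * g) * g⁻¹ = x.1 by group) }).symm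
    let f : (Σ z : {z : P // z ∈ l}, {g : ↥(E ⊓ Cent G (L := L) z.1) // g ≠ 1}) → {g : E // g ≠ 1} :=
      fun x => ⟨⟨x.2.1.1, x.2.1.2.1⟩, fun e => x.2.2 (Subtype.ext (congrArg (fun y : E => (y : G)) e))⟩
    have hf : Function.Bijective f := by
      constructor
      · rintro ⟨⟨a, ha⟩, ⟨g, hg⟩, hg1⟩ ⟨⟨b, hb⟩, ⟨g', hg'⟩, hg1'⟩ e
        obtain rfl : g = g' := congrArg Subtype.val (congrArg Subtype.val e)
        obtain rfl : a = b := cent_unique hg.2 hg'.2 fun e => hg1 (Subtype.ext e)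
        rfl
      · rintro ⟨⟨g, hg⟩, hg1⟩
        obtain ⟨-, z, hz, hgz⟩ := id hg
        exact ⟨⟨⟨z, hz⟩, ⟨g, hg, hgz⟩, fun e => hg1 (Subtype.ext
          (congrArg (fun y : ↥(E ⊓ Cent G (L := L) z) => (y : G)) e))⟩, rfl⟩
    have hcnt := Nat.card_congr (Equiv.ofBijective f hf)
    have hne1 : ∀ (H : Subgroup G), Nat.card {g : H // g ≠ 1} = Nat.card H - 1 := fun H => by
      cases nonempty_fintype H
      rw [Nat.card_eq_fintype_card, Nat.card_eq_fintype_card, Fintype.card_subtype_compl,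
        Fintype.card_subtype_eq]
    rw [Nat.card_sigma, Finset.sum_congr rfl fun z _ => (hne1 _).trans (by rw [hs z.1 z.2]),
      Finset.sum_const, Finset.card_univ, smul_eq_mul, ← Nat.card_eq_fintype_card, card_line, hne1] at hcnt
    obtain ⟨t, ht0, htn, ht⟩ := elat_index_dvd (G := G) hu
    have hs2 : 2 ≤ s := by
      haveI : Nontrivial ↥(E ⊓ Cent G (L := L) u) :=
        ⟨⟨⟨h * h', ⟨hA, u, hu, heu⟩, heu⟩, 1, fun e => he1 (congrArg Subtype.val e)⟩⟩
      exact Finite.one_lt_card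
    have hEpos : 0 < Nat.card E := Nat.card_pos
    obtain ⟨q, hq⟩ := htn
    obtain ⟨s', hs'⟩ : ∃ s', s = s' + 2 := ⟨s - 2, by omega⟩
    have hq1 : q = 1 := by
      change Nat.card E = t * s at ht
      rw [hs', show s' + 2 - 1 = s' + 1 by omega] at hcnt
      rw [hs'] at ht
      have e1 : t * (s' + 2) = (n + 1) * (s' + 1) + 1 := by omega
      rw [hq] at e1
      rcases Nat.lt_or_ge q 2 with hq2 | hq2
      · rcases Nat.eq_zero_or_pos q with h0 | h0
        · subst h0; rw [mul_zero] at hq; omega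
        · omega
      · exfalso
        have : t * 2 * (s' + 1) ≤ t * q * (s' + 1) := Nat.mul_le_mul_right _ (Nat.mul_le_mul_left t hq2)
        nlinarith
    rw [hq1, mul_one] at hq
    exact isPrimePow_of_dvd hr hexp (by omega) ⟨s, by rw [hq]; exact ht⟩
  -- a pair with centres on all lines through it
  push Not at hex
  obtain ⟨x, p, hx, hp, hxp, hne⟩ := hex
  have hcx := elat_card_of_cover hx ((dichotomy hyp hx hp hxp).resolve_left hne)
  have hne' : ¬ Exact L G p x := fun ⟨h, a, c, hh, hc⟩ => hne ⟨h, a, c, hh, hc.symm⟩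
  have hcp := elat_card_of_cover hp ((dichotomy hyp hp hx hxp.symm).resolve_left hne')
  by_cases htwo : ∀ z : P, ¬ E ≤ Cent G (L := L) z
  · obtain ⟨r, hr, hexp, -⟩ := exists_prime_exponent le_rfl hEne htwo
    exact isPrimePow_of_dvd hr hexp (by omega) ⟨_, hcx⟩
  push Not at htwo
  obtain ⟨u, hEu⟩ := htwo
  obtain ⟨hA, u', hu', heu'⟩ := heE
  obtain rfl : u = u' := cent_unique (hEu ⟨hA, u', hu', heu'⟩) heu' he1
  have htriv : ∀ z, z ≠ u → Nat.card ↥(E ⊓ Cent G (L := L) z) = 1 := fun z hz => by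
    rw [Subgroup.card_eq_one, eq_bot_iff]
    intro g hg
    rw [Subgroup.mem_bot]
    by_contra hg1
    exact hz (cent_unique hg.2 (hEu hg.1) hg1)
  have hEn : Nat.card E = n := by
    by_cases hxu : x = u
    · rw [hcp, htriv p (fun e => hxp (hxu.trans e.symm)), mul_one]
    · rw [hcx, htriv x hxu, mul_one]
  -- all centres of `l` lie on one line through `u`
  obtain ⟨j, hj1, hj2⟩ := exists_line (L := L) (pt_ne hu' hH.2.2.2.2)
  have hjl : j ≠ l := ne_of_not_mem hj2 hH.2.2.2.2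
  have hon : ∀ (g : G) (d : P), Hom g l d → d ∈ j := by
    intro g d hg
    by_cases hdc : c = d
    · exact hdc ▸ hj2
    have hge := (homology_mul hH.2.2.1 hg.2.2.1 hH.2.2.2.1 hg.2.2.2.1 hH.1 hg.1 hH.2.1 hg.2.1
      hg.2.2.2.2 hH.2.2.2.2 hdc).1
    have h1 := hEu hge j hj1
    rw [mul_smul, smul_eq_iff_eq_inv_smul, inv_eq_of_mul_eq_one_right hH.1, hH.2.2.2.1 j hj2] at h1
    exact (line_cases hg.2.2.1 hg.2.2.2.1 hg.2.1 h1).resolve_right hjl
  have hexu : ∀ q, q ∈ l → q ≠ u →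
      (∃ (g : G) (a : L), Hom g a u ∧ q ∈ a) ∨ ∃ g : G, Hom g j q := by
    intro q hq hqu
    rcases dichotomy hyp hu' hq (Ne.symm hqu) with ⟨g, a, d, hg, hcases⟩ | hcov
    · rcases hcases with ⟨rfl, hqa⟩ | ⟨rfl, hua⟩
      · exact Or.inl ⟨g, a, hg, hqa⟩
      · have hgl : g • l = l := exact_fix_line hg hq
        have hgu : g • u = u := hg.2.2.1 u hua
        have hconj : Hom (g * h * g⁻¹) l (g • c) := by
          refine ⟨?_, ?_, ?_, cent_conj hH.2.2.2.1, ?_⟩
          · rw [show g * h * g⁻¹ * (g * h * g⁻¹) = g * (h * h) * g⁻¹ by group, hH.1]; group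
          · exact fun e => hH.2.1 (conj_eq_one_iff.1 e)
          · have := ax_conj (h := g) hH.2.2.1
            rwa [hgl] at this
          · have := not_mem_smul (g := g) hH.2.2.2.2
            rwa [hgl] at this
        have hgcu : u ≠ g • c := pt_ne hu' hconj.2.2.2.2
        have hgj : g • j = j := line_eq hgcu (mem_of_fix_point hgu hj1) (mem_smul hj2) hj1 (hon _ _ hconj)
        rcases line_cases hg.2.2.1 hg.2.2.2.1 hg.2.1 hgj with hdj | hja
        · exact absurd (point_eq hjl hdj hj1 hq hu') hqu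
        · exact Or.inr ⟨g, hja ▸ hg⟩
    · obtain ⟨j', hj', hjl', hjj⟩ := exists_line_ne u l j
      obtain ⟨g, d, hg, hd⟩ := hcov j' hj' hjl'
      exact absurd (point_eq hjj hd hj' (hon g d hg) hj1 ▸ hu') hg.2.2.2.2
  -- an elation with centre `u` and another axis
  have haux : ∃ (e : G) (m : L), e ≠ 1 ∧ u ∈ m ∧ m ≠ l ∧ e ∈ Cent G (L := L) u ∧ e ∈ Ax G (P := P) m := by
    have c1 : ∀ q q', q ∈ l → q' ∈ l → q ≠ u → q ≠ q' →
        (∃ (g : G) (a : L), Hom g a u ∧ q ∈ a) → (∃ (g : G) (a : L), Hom g a u ∧ q' ∈ a) →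
        ∃ (e : G) (m : L), e ≠ 1 ∧ u ∈ m ∧ m ≠ l ∧ e ∈ Cent G (L := L) u ∧ e ∈ Ax G (P := P) m := by
      rintro q q' hq hq' hqu hqq ⟨g, a, hg, hqa⟩ ⟨g', a', hg', hqa'⟩
      have hal : a ≠ l := fun e => hg.2.2.2.2 (e ▸ hu')
      have haa : a ≠ a' := fun e => hqq (point_eq hal hqa (e ▸ hqa') hq hq')
      obtain ⟨⟨he, m, hum, hem⟩, he1⟩ := homology_mul (P := Dual L) (L := Dual P) hg.2.2.2.1 hg'.2.2.2.1
        hg.2.2.1 hg'.2.2.1 hg.1 hg'.1 hg.2.1 hg'.2.1 hg'.2.2.2.2 hg.2.2.2.2 haa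
      replace he : g * g' ∈ Cent G (L := L) u := he
      replace hem : g * g' ∈ Ax G (P := P) (show L from m) := hem
      refine ⟨g * g', m, he1, hum, fun hml => ?_, he, hem⟩
      subst hml
      obtain ⟨w, hw, hw'⟩ := exists_meet (P := P) haa
      have hfix : (g * g') • w = w := by rw [mul_smul, hg'.2.2.1 w hw', hg.2.2.1 w hw]
      rcases fix_cases hem he he1 hfix with hwl | rfl
      · have e1 := point_eq hal hw hqa hwl hq
        have hal' : a' ≠ m := fun e => hg'.2.2.2.2 (e ▸ hu')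
        have e2 := point_eq hal' hw' hqa' hwl hq'
        exact hqq (e1.symm.trans e2)
      · exact hg.2.2.2.2 hw
    have c2 : ∀ q q', q ∈ l → q' ∈ l → q ≠ q' → (∃ g : G, Hom g j q) → (∃ g : G, Hom g j q') →
        ∃ (e : G) (m : L), e ≠ 1 ∧ u ∈ m ∧ m ≠ l ∧ e ∈ Cent G (L := L) u ∧ e ∈ Ax G (P := P) m := by
      rintro q q' hq hq' hqq ⟨g, hg⟩ ⟨g', hg'⟩
      obtain ⟨⟨he, v, hv, hev⟩, he1⟩ := homology_mul hg.2.2.1 hg'.2.2.1 hg.2.2.2.1 hg'.2.2.2.1 hg.1 hg'.1
        hg.2.1 hg'.2.1 hg'.2.2.2.2 hg.2.2.2.2 hqq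
      have hgl : (g * g') • l = l := by rw [mul_smul, hg'.2.2.2.1 l hq', hg.2.2.2.1 l hq]
      have hvl : v ∈ l := (line_cases he hev he1 hgl).resolve_right hjl.symm
      obtain rfl : v = u := point_eq hjl hv hj1 hvl hu'
      exact ⟨g * g', j, he1, hj1, hjl, hev, he⟩
    obtain ⟨q₁, hq₁, hq₁u, -⟩ := exists_mem_ne l u u
    obtain ⟨q₂, hq₂, hq₂u, hq₂₁⟩ := exists_mem_ne l u q₁
    obtain ⟨q₃, hq₃, hq₃u, hq₃₁, hq₃₂⟩ : ∃ q, q ∈ l ∧ q ≠ u ∧ q ≠ q₁ ∧ q ≠ q₂ := by
      have hc := card_line (P := P) l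
      rw [Nat.card_eq_fintype_card, Fintype.card_subtype] at hc
      obtain ⟨q, hq, hq'⟩ := Finset.exists_mem_notMem_of_card_lt_card
        (s := ({u, q₁, q₂} : Finset P)) (t := Finset.univ.filter fun z : P => z ∈ l) (by
          have : ({u, q₁, q₂} : Finset P).card ≤ 3 := Finset.card_le_three
          omega)
      simp only [Finset.mem_insert, Finset.mem_singleton, not_or] at hq'
      exact ⟨q, (Finset.mem_filter.1 hq).2, hq'⟩
    rcases hexu q₁ hq₁ hq₁u with a1 | b1 <;> rcases hexu q₂ hq₂ hq₂u with a2 | b2 <;>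
      rcases hexu q₃ hq₃ hq₃u with a3 | b3
    all_goals first
      | exact c1 q₁ q₂ hq₁ hq₂ hq₁u hq₂₁.symm a1 a2
      | exact c1 q₁ q₃ hq₁ hq₃ hq₁u hq₃₁.symm a1 a3
      | exact c1 q₂ q₃ hq₂ hq₃ hq₂u hq₃₂.symm a2 a3
      | exact c2 q₁ q₂ hq₁ hq₂ hq₂₁.symm b1 b2
      | exact c2 q₁ q₃ hq₁ hq₃ hq₃₁.symm b1 b3
      | exact c2 q₂ q₃ hq₂ hq₃ hq₃₂.symm b2 b3
  obtain ⟨e, m, he, hum, hml, heu, hem⟩ := haux
  set Z := Elat G (P := Dual L) (L := Dual P) u
  have hEZ : E ≤ Z := fun g hg => ⟨hEu hg, l, hu', hg.1⟩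
  have heZ : e ∈ Z := ⟨heu, m, hum, hem⟩
  have hZtwo : ∀ z : Dual L, ¬ Z ≤ Cent G (L := Dual P) z := by
    intro z hz
    have h1 : h * h' ∈ Ax G (P := P) (show L from z) := hz (hEZ ⟨hA, u, hu', heu'⟩)
    have h2 : e ∈ Ax G (P := P) (show L from z) := hz heZ
    exact hml ((ax_unique hem h2 he).trans (ax_unique h1 hA he1))
  obtain ⟨r, hr, hexp, -⟩ := exists_prime_exponent (P := Dual L) (L := Dual P) (E := Z) le_rfl
    (fun e0 => he (by rw [← Subgroup.mem_bot, ← e0]; exact heZ)) hZtwo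
  exact isPrimePow_of_dvd hr (fun g hg => hexp g (hEZ hg)) (by omega) (dvd_of_eq hEn.symm)

end Cfsg.Agent.Lie.OW
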