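import Cfsg.Agent.Lib.Lie.OstromWagner.Baer
import Cfsg.Agent.Lib.Lie.OstromWagner.PrimePower
import Mathlib.GroupTheory.Nilpotent

/-!
# A two-point-transitive collineation group contains a perspectivity

If not, all involutions are Baer, so `n` is an odd square (the even case dies on a central involution of a flag
stabilizer); a maximal `2`-group fixing a quadrangle gives a subplane with many homologies, so `n` is a prime
power, and then a central element of a Sylow subgroup of a two-point stabilizer is a perspectivity.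
-/

set_option autoImplicit false

namespace Cfsg.Agent.Lie.OW

open Configuration MulAction

universe u v w

variable {G : Type w} [Group G] [Finite G] {P : Type u} {L : Type v}

section group

theorem SylIn.conj_exists {p : ℕ} [Fact p.Prime] {R R' H : Subgroup G} (h : SylIn p R H)
    (h' : SylIn p R' H) : ∃ g ∈ H, ∀ x, x ∈ R' ↔ g⁻¹ * x * g ∈ R := by
  have e : ∀ {S : Subgroup G}, SylIn p S H →
      Nat.card (S.subgroupOf H) = p ^ (Nat.card H).factorization p := fun {S} hS => by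
    rw [Nat.card_congr (Subgroup.subgroupOfEquivOfLe hS.le).toEquiv, hS.card]
  obtain ⟨g, hg⟩ := exists_smul_eq H (Sylow.ofCard _ (e h)) (Sylow.ofCard _ (e h'))
  refine ⟨g, g.2, fun x => ?_⟩
  have hg' := congrArg (fun S : Sylow p H => (S : Subgroup H)) hg
  simp only [Sylow.coe_subgroup_smul, Sylow.coe_ofCard] at hg'
  constructor
  · intro hx
    have hxH : x ∈ H := h'.le hx
    have : (⟨x, hxH⟩ : H) ∈ R'.subgroupOf H := hx
    rw [← hg', Subgroup.mem_pointwise_smul_iff_inv_smul_mem, MulAut.smul_def, ← map_inv,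
      MulAut.conj_apply, inv_inv] at this
    exact this
  · intro hx
    have hxH : x ∈ H := by
      have := H.mul_mem (H.mul_mem g.2 (h.le hx)) (H.inv_mem g.2)
      rwa [show (g : G) * ((g : G)⁻¹ * x * g) * (g : G)⁻¹ = x by group] at this
    suffices (⟨x, hxH⟩ : H) ∈ R'.subgroupOf H from this
    rw [← hg', Subgroup.mem_pointwise_smul_iff_inv_smul_mem, MulAut.smul_def, ← map_inv,
      MulAut.conj_apply, inv_inv]
    exact hx

theorem card_pair_stab [MulAction G P] (h2 : TwoTrans G P) {a b c d : P} (hab : a ≠ b) (hcd : c ≠ d) :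
    Nat.card ↥(stabilizer G a ⊓ stabilizer G b) = Nat.card ↥(stabilizer G c ⊓ stabilizer G d) := by
  obtain ⟨g, h1, h2'⟩ := h2 a b c d hab hcd
  refine Nat.card_congr
    { toFun := fun x => ⟨g * x.1 * g⁻¹, ?_, ?_⟩
      invFun := fun x => ⟨g⁻¹ * x.1 * g, ?_, ?_⟩
      left_inv := fun x => Subtype.ext (show g⁻¹ * (g * x.1 * g⁻¹) * g = x.1 by group)
      right_inv := fun x => Subtype.ext (show g * (g⁻¹ * x.1 * g) * g⁻¹ = x.1 by group) }
  · show (g * x.1 * g⁻¹) • c = c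
    rw [mul_smul, mul_smul, inv_smul_eq_iff.2 h1.symm, x.2.1, h1]
  · show (g * x.1 * g⁻¹) • d = d
    rw [mul_smul, mul_smul, inv_smul_eq_iff.2 h2'.symm, x.2.2, h2']
  · show (g⁻¹ * x.1 * g) • a = a
    rw [mul_smul, mul_smul, h1, x.2.1, inv_smul_eq_iff, h1]
  · show (g⁻¹ * x.1 * g) • b = b
    rw [mul_smul, mul_smul, h2', x.2.2, inv_smul_eq_iff, h2']

/-- A nontrivial `p`-subgroup has a central element of order `p`. -/
theorem exists_central {p : ℕ} [hp : Fact p.Prime] {R : Subgroup G} (h : IsPGroup p R) (hne : R ≠ ⊥) :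
    ∃ z ∈ R, z ≠ 1 ∧ z ^ p = 1 ∧ ∀ g ∈ R, g * z = z * g := by
  haveI : Nontrivial R := (Subgroup.nontrivial_iff_ne_bot R).2 hne
  haveI := h.center_nontrivial
  obtain ⟨j, hj⟩ := IsPGroup.iff_card.1 (h.to_subgroup (Subgroup.center R))
  have h1 : 1 < Nat.card (Subgroup.center R) := Finite.one_lt_card
  have hdvd : p ∣ Nat.card (Subgroup.center R) := by
    rw [hj] at h1 ⊢
    exact dvd_pow_self p (fun h0 => by simp [h0] at h1)
  obtain ⟨z, hz⟩ := exists_prime_orderOf_dvd_card' p hdvd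
  have hz1 : (z : R) ^ p = 1 := by rw [← hz]; exact congrArg Subtype.val (pow_orderOf_eq_one z)
  refine ⟨((z : R) : G), (z : R).2, fun e => hp.1.one_lt.ne' ?_, congrArg Subtype.val hz1, fun g hg => ?_⟩
  · rw [← hz, orderOf_eq_one_iff]
    exact Subtype.ext (Subtype.ext e)
  · exact congrArg Subtype.val (Subgroup.mem_center_iff.1 z.2 ⟨g, hg⟩)

end group

variable [Membership P L] [ProjectivePlane P L]

theorem quad_univ [Fintype P] [Fintype L] {F : P → Prop} (hF : ∀ p, F p) : Quad L F := by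
  obtain ⟨p₁, p₂, p₃, l₁, l₂, l₃, h₁₂, h₁₃, h₂₁, h₂₂, h₂₃, h₃₁, h₃₂, h₃₃⟩ :=
    ProjectivePlane.exists_config (P := P) (L := L)
  have h12 : p₁ ≠ p₂ := fun e => h₁₂ (e ▸ h₂₂)
  have h13 : p₁ ≠ p₃ := fun e => h₁₂ (e ▸ h₃₂)
  have h23 : p₂ ≠ p₃ := fun e => h₃₃ (e ▸ h₂₃)
  obtain ⟨j, hj1, hj3⟩ := exists_line (L := L) h13
  have hjl₃ : j ≠ l₃ := ne_of_not_mem hj1 h₁₃
  obtain ⟨w, hw1, hw2⟩ := exists_meet (P := P) hjl₃
  obtain ⟨d, hd, hd2, hdw⟩ := exists_mem_ne l₃ p₂ w
  have h23' : l₃ ≠ l₂ := fun e => h₃₃ (e ▸ h₃₂)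
  have hdl₂ : d ∉ l₂ := fun h => hd2 (point_eq h23' hd h₂₃ h h₂₂)
  have hdj : d ∉ j := fun h => hdw (point_eq hjl₃ h hw1 hd hw2)
  refine ⟨p₁, p₂, p₃, d, hF _, hF _, hF _, hF _, h12, fun e => hdl₂ (e ▸ h₃₂), fun l ha hb => ⟨fun hc => ?_, fun hd' => ?_⟩,
    fun l hc hd' => ⟨fun ha => ?_, fun hb => ?_⟩⟩
  · exact h₁₂ (line_eq h23 hb hc h₂₂ h₃₂ ▸ ha)
  · exact h₁₃ (line_eq (Ne.symm hd2) hb hd' h₂₃ hd ▸ ha)
  · exact hdj (line_eq h13 ha hc hj1 hj3 ▸ hd')
  · exact hdl₂ (line_eq h23 hb hc h₂₂ h₃₂ ▸ hd')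

variable [Fintype P] [Fintype L] [MulAction G P] [MulAction G L] [Acts G P L] [FaithfulSMul G P]

local notation "n" => ProjectivePlane.order P L

variable (L) in
/-- No nonidentity element has an axis. -/
def NoPersp (G : Type w) (P : Type u) [Group G] [MulAction G P] [Membership P L] : Prop :=
  ∀ (g : G) (l : L), g ∈ Ax G (P := P) l → g = 1

omit [Finite G] in
theorem quad_of_involution (hno : NoPersp L G P) {t : G} (ht : t * t = 1) (ht1 : t ≠ 1) :
    Quad L (fun p : P => t • p = p) :=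
  (involution_cases (L := L) t fun p => by rw [← mul_smul, ht, one_smul]).resolve_right
    fun ⟨l, hl⟩ => ht1 (hno t l hl)

omit [Fintype P] [Fintype L] [FaithfulSMul G P] [Acts G P L] [ProjectivePlane P L] [Membership P L]
  [MulAction G L] [Finite G] in
theorem fixd_zpowers {t : G} {p : P} : Fixd (Subgroup.zpowers t) p ↔ t • p = p := by
  refine ⟨fun h => h t (Subgroup.mem_zpowers t), fun h w hw => ?_⟩
  obtain ⟨k, rfl⟩ := Subgroup.mem_zpowers_iff.1 hw
  have : t ∈ stabilizer G p := h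
  exact zpow_mem this k

/-- The fixed points of a Baer involution off a fixed line. -/
theorem baer_off (hno : NoPersp L G P) {t : G} (ht : t * t = 1) (ht1 : t ≠ 1) {l : L} (hl : t • l = l) :
    Nat.card {p : P // t • p = p ∧ p ∉ l} = n := by
  classical
  have hq : Quad L (Fixd (Subgroup.zpowers t) : P → Prop) :=
    (quad_of_involution hno ht ht1).mono fun p hp => fixd_zpowers.2 hp
  letI := subPlane hq
  set W := Subgroup.zpowers t
  set k := ProjectivePlane.order (FP P W) (FP L W)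
  have hfl : ∀ j : L, t • j = j → Fixd W j := fun j hj => fixd_zpowers.2 hj
  have hk : k ^ 2 = n := by
    refine baer (L := L) (g := t) (fun p => by rw [← mul_smul, ht, one_smul]) ?_ ?_ fun j hj => ?_
    · by_contra h
      push Not at h
      exact ht1 (eq_one_of_fix (P := P) h)
    · rw [← card_plane (P := FP P W) (L := FP L W)]
      exact Nat.card_congr (Equiv.subtypeEquivRight fun p => fixd_zpowers.symm)
    · rw [← card_line (P := FP P W) (⟨j, hfl j hj⟩ : FP L W)]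
      exact Nat.card_congr
        { toFun := fun p => ⟨⟨p.1, fixd_zpowers.2 p.2.2⟩, p.2.1⟩
          invFun := fun p => ⟨p.1.1, p.2, fixd_zpowers.1 p.1.2⟩
          left_inv := fun _ => rfl
          right_inv := fun _ => rfl }
  rw [← hk, ← card_off (P := FP P W) (⟨l, hfl l hl⟩ : FP L W)]
  exact Nat.card_congr
    { toFun := fun p => ⟨⟨p.1, fixd_zpowers.2 p.2.1⟩, p.2.2⟩
      invFun := fun p => ⟨p.1.1, fixd_zpowers.1 p.1.2, p.2⟩
      left_inv := fun _ => rfl
      right_inv := fun _ => rfl }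

theorem odd_order (h2 : TwoTrans G P) (hno : NoPersp L G P) : Odd n := by
  haveI := Fact.mk Nat.prime_two
  rw [← Nat.not_even_iff_odd]
  intro heven
  have hn0 : n ≠ 0 := by have := two_le_order (P := P) (L := L); omega
  obtain ⟨q, hq⟩ : ∃ q : L, True := by
    obtain ⟨-, -, -, l, -⟩ := ProjectivePlane.exists_config (P := P) (L := L)
    exact ⟨l, trivial⟩
  obtain ⟨x, hx⟩ := exists_point_mem (P := P) q
  set H := stabilizer G x ⊓ stabilizer G q
  have hinv : ∀ g ∈ H, ∀ b : P, b ∉ q → g • b ∉ q := fun g hg b hb => not_mem_of_fix_line hg.2 hb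
  have htr : ∀ a b : P, a ∉ q → b ∉ q → ∃ g ∈ H, g • a = b := fun a b ha hb => by
    obtain ⟨g, g1, g2, g3⟩ := h2.triple hx ha hx hb
    exact ⟨g, ⟨g1, g2⟩, g3⟩
  set a := Nat.factorization n 2 with ha_def
  have ha : 2 ^ (2 * a) ∣ Nat.card {b : P // b ∉ q} := by
    rw [card_off, mul_comm, pow_mul]
    exact pow_dvd_pow_of_dvd (Nat.ordProj_dvd _ _) 2
  have ha1 : 1 ≤ a := Nat.prime_two.factorization_pos_of_dvd hn0 (even_iff_two_dvd.1 heven)
  obtain ⟨R, hR⟩ := exists_sylIn' 2 H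
  obtain ⟨o, ho⟩ := Nondegenerate.exists_point (P := P) q
  have hne : R ≠ ⊥ := by
    intro e
    have := hR.dvd_orbit (S := fun b : P => b ∉ q) ho hinv (fun b hb => htr o b ho hb) ha
    have h2' := card_stab_mul R o
    subst e
    rw [Subgroup.card_bot, mul_eq_one] at h2'
    rw [h2'.1, Nat.dvd_one, pow_eq_one_iff] at this
    · omega
  obtain ⟨z, hzR, hz1, hz2, hzc⟩ := exists_central hR.isPGroup hne
  rw [pow_two] at hz2
  have hzl : z • q = q := (hR.le hzR).2
  have hdvd : 2 ^ (2 * a) ∣ Nat.card {b : P // z • b = b ∧ b ∉ q} := by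
    refine dvd_card_of_dvd_orbit R (fun g hg b hb => ⟨?_, hinv g (hR.le hg) b hb.2⟩) fun b hb =>
      hR.dvd_orbit (S := fun b : P => b ∉ q) hb.2 hinv (fun c hc => htr b c hb.2 hc) ha
    rw [← mul_smul, ← hzc g hg, mul_smul, hb.1]
  rw [baer_off hno hz2 hz1 hzl] at hdvd
  have h1 := (Nat.prime_two.pow_dvd_iff_le_factorization hn0).1 hdvd
  change 2 * a ≤ a at h1
  omega

/-- A Sylow `2`-subgroup of a two-point stabilizer fixes no quadrangle. -/
theorem not_quad (h2 : TwoTrans G P) {p x : P} (hpx : p ≠ x) {T : Subgroup G}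
    (hT : SylIn 2 T (stabilizer G p ⊓ stabilizer G x)) : ¬ Quad L (Fixd T : P → Prop) := by
  classical
  haveI := Fact.mk Nat.prime_two
  intro hq
  obtain ⟨g, g1, g2⟩ := h2 p x x p hpx hpx.symm
  set H := stabilizer G p ⊓ stabilizer G x
  have hg' : ∀ y ∈ H, g⁻¹ * y * g ∈ H ∧ g * y * g⁻¹ ∈ H := by
    intro y hy
    refine ⟨⟨?_, ?_⟩, ?_, ?_⟩
    · show (g⁻¹ * y * g) • p = p
      rw [mul_smul, mul_smul, g1, hy.2, inv_smul_eq_iff, g1]
    · show (g⁻¹ * y * g) • x = x
      rw [mul_smul, mul_smul, g2, hy.1, inv_smul_eq_iff, g2]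
    · show (g * y * g⁻¹) • p = p
      rw [mul_smul, mul_smul, inv_smul_eq_iff.2 g2.symm, hy.2, g2]
    · show (g * y * g⁻¹) • x = x
      rw [mul_smul, mul_smul, inv_smul_eq_iff.2 g1.symm, hy.1, g1]
  have hT' : SylIn 2 (T.map (MulAut.conj g).toMonoidHom) H := by
    refine ⟨?_, by rw [Subgroup.card_map_of_injective (MulEquiv.injective _), hT.card]⟩
    rintro _ ⟨y, hy, rfl⟩
    exact (hg' y (hT.le hy)).2
  obtain ⟨h, hh, hconj⟩ := hT'.conj_exists hT
  set s₀ := h * g
  have hs₀ : s₀ ∈ Subgroup.normalizer (T : Set G) := by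
    rw [Subgroup.mem_normalizer_iff]
    intro y
    rw [hconj (s₀ * y * s₀⁻¹), Subgroup.mem_map_equiv]
    simp [s₀, mul_assoc]
  have hs₀p : s₀ • p = x := by rw [mul_smul, g1, hh.2]
  have hs₀x : s₀ • x = p := by rw [mul_smul, g2, hh.1]
  obtain ⟨c, m, hm, hcm⟩ := Nat.exists_eq_two_pow_mul_odd (orderOf_pos s₀).ne'
  set s := s₀ ^ m
  have hsp : s • p = x := by
    obtain ⟨i, hi⟩ := hm
    have hsq : s₀ ^ 2 ∈ stabilizer G p := by
      show s₀ ^ 2 • p = p
      rw [pow_two, mul_smul, hs₀p, hs₀x]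
    have h' : (s₀ ^ 2) ^ i • p = p := pow_mem hsq i
    show s₀ ^ m • p = x
    rw [hi, pow_succ', pow_mul, mul_smul, h', hs₀p]
  have hsN : s ∈ Subgroup.normalizer (T : Set G) := pow_mem hs₀ m
  have hs2 : s ^ 2 ^ c = 1 := by
    rw [← pow_mul, mul_comm, ← hcm, pow_orderOf_eq_one]
  have hex : ∃ i, ∀ q : P, Fixd T q → s ^ 2 ^ i • q = q := ⟨c, fun q _ => by rw [hs2, one_smul]⟩
  set i := Nat.find hex
  have hi0 : i ≠ 0 := by
    intro h0
    have := Nat.find_spec hex p fun w hw => (hT.le hw).1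
    change s ^ 2 ^ i • p = p at this
    rw [h0, pow_zero, pow_one, hsp] at this
    exact hpx this.symm
  set u := s ^ 2 ^ (i - 1)
  have huN : u ∈ Subgroup.normalizer (T : Set G) := pow_mem hsN _
  letI := subPlane hq
  set u' : Subgroup.normalizer (T : Set G) := ⟨u, huN⟩
  have hinv : ∀ q : FP P T, u' • u' • q = q := fun q => Subtype.ext <| by
    show u • u • q.1 = q.1
    rw [← mul_smul, ← pow_add, ← two_mul, ← pow_succ', Nat.sub_add_cancel (Nat.pos_of_ne_zero hi0)]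
    exact Nat.find_spec hex q.1 q.2
  -- two fixed points in the fixed plane
  obtain ⟨a, b, hab, hua, hub⟩ : ∃ a b : FP P T, a ≠ b ∧ u' • a = a ∧ u' • b = b := by
    rcases involution_cases (L := FP L T) u' hinv with ⟨a, b, -, -, ha, hb, -, -, hab, -⟩ | ⟨l, hl⟩
    · exact ⟨a, b, hab, ha, hb⟩
    · obtain ⟨a, ha⟩ := exists_point_mem (P := FP P T) l
      obtain ⟨b, hb, hba, -⟩ := exists_mem_ne l a a
      exact ⟨a, b, hba.symm, hl a ha, hl b hb⟩
  have hab' : a.1 ≠ b.1 := fun e => hab (Subtype.ext e)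
  have hTab : SylIn 2 T (stabilizer G a.1 ⊓ stabilizer G b.1) :=
    ⟨fun w hw => ⟨a.2 w hw, b.2 w hw⟩, by rw [hT.card, card_pair_stab h2 hpx hab']⟩
  have hle : T ⊔ Subgroup.zpowers u ≤ stabilizer G a.1 ⊓ stabilizer G b.1 :=
    sup_le hTab.le (Subgroup.zpowers_le.2 ⟨congrArg Subtype.val hua, congrArg Subtype.val hub⟩)
  have hu2 : IsPGroup 2 (Subgroup.zpowers u) := by
    refine IsPGroup.to_le (?_ : IsPGroup 2 (Subgroup.zpowers s)) (Subgroup.zpowers_le.2 (pow_mem (Subgroup.mem_zpowers s) _))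
    obtain ⟨j, -, hj⟩ := (Nat.dvd_prime_pow Nat.prime_two).1 (orderOf_dvd_of_pow_eq_one hs2)
    exact IsPGroup.of_card (show Nat.card (Subgroup.zpowers s) = 2 ^ j by rw [Nat.card_zpowers, hj])
  have hp : IsPGroup 2 ↥(T ⊔ Subgroup.zpowers u) :=
    hT.isPGroup.to_sup_of_normal_left' hu2 (Subgroup.zpowers_le.2 huN)
  have hmem : u ∈ T := hTab.eq_of_le le_sup_left hle hp ▸ Subgroup.mem_sup_right (Subgroup.mem_zpowers u)
  have := Nat.find_min hex (Nat.sub_lt (Nat.pos_of_ne_zero hi0) Nat.one_pos) fun q hq => hq u hmem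
  exact this

omit [Finite G] [FaithfulSMul G P] [Fintype P] [Fintype L] in
theorem fixd_sup {X : Type*} [MulAction G X] {A B : Subgroup G} {q : X} (h : Fixd A q) (h' : Fixd B q) :
    Fixd (A ⊔ B) q :=
  fun w hw => (sup_le (a := A) (b := B) (c := stabilizer G q) h h') hw

/-- The order is a prime power when there are no perspectivities. -/
theorem isPrimePow_order (h2 : TwoTrans G P) (hno : NoPersp L G P) : IsPrimePow n := by
  classical
  haveI := Fact.mk Nat.prime_two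
  have hodd := odd_order h2 hno
  set S := {Q : Subgroup G | IsPGroup 2 Q ∧ Quad L (Fixd Q : P → Prop)}
  have hS : S.Nonempty :=
    ⟨⊥, IsPGroup.of_bot, quad_univ fun p w hw => by rw [Subgroup.mem_bot.1 hw, one_smul]⟩
  obtain ⟨Q, ⟨⟨hQp, hQq⟩, hmax⟩⟩ := (Set.toFinite S).exists_maximalFor id S hS
  replace hmax : ∀ Q' : Subgroup G, IsPGroup 2 Q' → Quad L (Fixd Q' : P → Prop) → Q ≤ Q' → Q' ≤ Q :=
    fun Q' a b c => hmax ⟨a, b⟩ c
  letI := subPlane hQq
  obtain ⟨i, hi⟩ := order_chain Q hQp hQq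
  set k := ProjectivePlane.order (FP P Q) (FP L Q)
  have hk : Odd k := (Nat.odd_pow_iff (by positivity : 2 ^ i ≠ 0)).1 (hi ▸ hodd)
  suffices IsPrimePow k by
    rw [← hi]
    exact this.pow (by positivity)
  set N := Subgroup.normalizer (Q : Set G)
  set K := (MulAction.toPermHom N (FP P Q)).ker
  let fP : N ⧸ K →* Equiv.Perm (FP P Q) := QuotientGroup.kerLift _
  have hKL : K ≤ (MulAction.toPermHom N (FP L Q)).ker := fun g hg =>
    MonoidHom.mem_ker.2 <| Equiv.ext fun l =>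
      show g • l = l from lines_trivial (P := FP P Q) (fun p => DFunLike.congr_fun (MonoidHom.mem_ker.1 hg) p) l
  let fL : N ⧸ K →* Equiv.Perm (FP L Q) := QuotientGroup.lift K _ hKL
  letI : MulAction (N ⧸ K) (FP P Q) := MulAction.compHom _ fP
  letI : MulAction (N ⧸ K) (FP L Q) := MulAction.compHom _ fL
  haveI : Acts (N ⧸ K) (FP P Q) (FP L Q) := ⟨fun g p l => by
    induction g using QuotientGroup.induction_on with
    | H g => exact Acts.mem_iff g p l⟩
  haveI : FaithfulSMul (N ⧸ K) (FP P Q) :=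
    ⟨fun {a b} h => QuotientGroup.kerLift_injective _ (Equiv.ext h)⟩
  refine order_isPrimePow (G := N ⧸ K) (fun p x l hx hp => ?_) hk
  set H₂ := stabilizer G p.1 ⊓ stabilizer G x.1
  set H₃ := H₂ ⊓ stabilizer G l.1
  have hpl : p.1 ∉ l.1 := hp
  have hpx : p.1 ≠ x.1 := (pt_ne (L := L) hx hpl).symm
  have hQH : Q ≤ H₃ := fun w hw => ⟨⟨p.2 w hw, x.2 w hw⟩, l.2 w hw⟩
  obtain ⟨T, hT, hQT⟩ := exists_sylIn 2 hQp hQH
  have hT₂ : SylIn 2 T H₂ := by
    refine ⟨hT.le.trans inf_le_left, ?_⟩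
    have hc := card_mul_stab H₂ (S := fun j : L => x.1 ∈ j ∧ p.1 ∉ j) (a := l.1) ⟨hx, hpl⟩
      (fun g hg j hj => ⟨mem_of_fix_point hg.2 hj.1, by
        have := not_mem_smul (g := g) hj.2
        rwa [hg.1] at this⟩)
      (fun j hj => by
        obtain ⟨g, g1, g2, g3⟩ := h2.pencil hx hpl hj.1 hj.2
        exact ⟨g, ⟨g1, g2⟩, g3⟩)
    obtain ⟨m, hm1, hm2⟩ := exists_line (L := L) hpx
    have hcard : Nat.card {j : L // x.1 ∈ j ∧ p.1 ∉ j} = n := by
      have h := card_pencil (L := L) x.1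
      rw [Nat.card_eq_fintype_card, Fintype.card_subtype] at h ⊢
      have : (Finset.univ.filter fun j : L => x.1 ∈ j ∧ p.1 ∉ j) =
          (Finset.univ.filter fun j : L => x.1 ∈ j).erase m := by
        ext j
        simp only [Finset.mem_filter, Finset.mem_univ, true_and, Finset.mem_erase]
        constructor
        · rintro ⟨a, b⟩; exact ⟨fun e => b (e ▸ hm1), a⟩
        · rintro ⟨a, b⟩; exact ⟨b, fun e => a (line_eq hpx e b hm1 hm2)⟩
      rw [this, Finset.card_erase_of_mem (by simp [hm2]), h]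
      omega
    rw [hcard] at hc
    rw [hT.card]
    show 2 ^ (Nat.card H₃).factorization 2 = 2 ^ (Nat.card H₂).factorization 2
    rw [← hc, Nat.factorization_mul (by have := two_le_order (P := P) (L := L); omega) Nat.card_pos.ne',
      Finsupp.add_apply, Nat.factorization_eq_zero_of_not_dvd (fun h => Nat.not_even_iff_odd.2 hodd
        (even_iff_two_dvd.2 h)), zero_add]
  have hlt : Q < T := lt_of_le_of_ne hQT fun e => not_quad h2 hpx hT₂ (e ▸ hQq)
  haveI := hT.isPGroup.isNilpotent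
  have hnc := normalizerCondition_of_isNilpotent (G := T) (Q.subgroupOf T)
    (lt_top_iff_ne_top.2 fun e => hlt.not_ge (Subgroup.subgroupOf_eq_top.1 e))
  obtain ⟨g, hgN, hgQ⟩ := SetLike.exists_of_lt hnc
  have hgN' : (g : G) ∈ N := by
    rw [Subgroup.mem_normalizer_iff]
    intro y
    rw [Subgroup.mem_normalizer_iff] at hgN
    constructor
    · intro hy
      exact (hgN ⟨y, hQT hy⟩).1 hy
    · intro hy
      have hyT : y ∈ T := by
        have := T.mul_mem (T.mul_mem (T.inv_mem g.2) (hQT hy)) g.2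
        rwa [show (g : G)⁻¹ * ((g : G) * y * (g : G)⁻¹) * g = y by group] at this
      exact (hgN ⟨y, hyT⟩).2 hy
  -- nothing outside `Q` normalizing it in `T` fixes a quadrangle of the subplane
  have hnofix : ∀ y : N, (y : G) ∈ T → (y : G) ∉ Q → ¬ Quad L (fun q : P => Fixd Q q ∧ (y : G) • q = q) := by
    intro y hyT hyQ hquad
    refine hyQ (hmax (Q ⊔ Subgroup.zpowers (y : G)) (hT.isPGroup.to_le
      (sup_le hQT (Subgroup.zpowers_le.2 hyT))) (hquad.mono fun q hq => ?_) le_sup_left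
      (Subgroup.mem_sup_right (Subgroup.mem_zpowers _)))
    exact fixd_sup hq.1 (fixd_zpowers.2 hq.2)
  set gN : N := ⟨g, hgN'⟩
  set γ : N ⧸ K := QuotientGroup.mk gN
  have hγ1 : γ ≠ 1 := by
    intro e
    have hgk : gN ∈ K := (QuotientGroup.eq_one_iff _).1 e
    refine hnofix gN g.2 hgQ (hQq.mono fun q hq => ⟨hq, ?_⟩)
    exact congrArg Subtype.val (DFunLike.congr_fun (MonoidHom.mem_ker.1 hgk) ⟨q, hq⟩)
  obtain ⟨j, hj⟩ : ∃ j, orderOf γ = 2 ^ (j + 1) := by
    obtain ⟨c, hc⟩ := hT.isPGroup g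
    have hγ : γ ^ 2 ^ c = 1 := by
      rw [← QuotientGroup.mk_pow, QuotientGroup.eq_one_iff]
      have : gN ^ 2 ^ c = 1 := Subtype.ext (show (g : G) ^ 2 ^ c = 1 from congrArg Subtype.val hc)
      rw [this]; exact one_mem _
    obtain ⟨d, -, hd⟩ := (Nat.dvd_prime_pow Nat.prime_two).1 (orderOf_dvd_of_pow_eq_one hγ)
    rcases d with - | d
    · exact absurd (orderOf_eq_one_iff.1 hd) hγ1
    · exact ⟨d, hd⟩
  set y := gN ^ 2 ^ j
  set η : N ⧸ K := QuotientGroup.mk y
  have hη : η = γ ^ 2 ^ j := QuotientGroup.mk_pow _ _ _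
  have hη2 : η * η = 1 := by rw [hη, ← pow_add, ← two_mul, ← pow_succ', ← hj, pow_orderOf_eq_one]
  have hη1 : η ≠ 1 := by
    rw [hη]
    exact pow_ne_one_of_lt_orderOf (pow_ne_zero j two_ne_zero) (by rw [hj]; exact Nat.pow_lt_pow_right (by omega) (by omega))
  have hyT : (y : G) ∈ T := pow_mem g.2 _
  have hyQ : (y : G) ∉ Q := fun h => hη1 <| (QuotientGroup.eq_one_iff _).2 <|
    MonoidHom.mem_ker.2 <| Equiv.ext fun q => Subtype.ext (q.2 _ h)
  have hyH := hT.le hyT
  rcases involution_cases (L := FP L Q) η (fun q => by rw [← mul_smul, hη2, one_smul]) with hquad | ⟨a, ha⟩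
  · refine absurd ?_ (hnofix y hyT hyQ)
    obtain ⟨a, b, c, d, ha, hb, hc, hd, hab, hcd, h1, h1'⟩ := hquad
    refine ⟨a.1, b.1, c.1, d.1, ⟨a.2, congrArg Subtype.val ha⟩, ⟨b.2, congrArg Subtype.val hb⟩,
      ⟨c.2, congrArg Subtype.val hc⟩, ⟨d.2, congrArg Subtype.val hd⟩, fun e => hab (Subtype.ext e),
      fun e => hcd (Subtype.ext e), fun m hm1 hm2 => ?_, fun m hm1 hm2 => ?_⟩
    · exact h1 ⟨m, fixd_line (fun e => hab (Subtype.ext e)) a.2 b.2 hm1 hm2⟩ hm1 hm2
    · exact h1' ⟨m, fixd_line (fun e => hcd (Subtype.ext e)) c.2 d.2 hm1 hm2⟩ hm1 hm2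
  · obtain ⟨c, hc, hc'⟩ := exists_center_off hk ha hη2
    exact ⟨η, a, c, ⟨hη2, hη1, ha, hc', hc⟩, Subtype.ext hyH.1.1, Subtype.ext hyH.1.2, Subtype.ext hyH.2⟩

/-- There is a perspectivity. -/
theorem exists_perspectivity (h2 : TwoTrans G P) : ∃ (g : G) (l : L), g ≠ 1 ∧ g ∈ Ax G (P := P) l := by
  classical
  by_contra hcon
  push Not at hcon
  have hno : NoPersp L G P := fun g l hg => by_contra fun h => hcon g l h hg
  obtain ⟨r, a, hr, ha0, hn⟩ := (isPrimePow_nat_iff _).1 (isPrimePow_order h2 hno)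
  haveI := Fact.mk hr
  obtain ⟨-, -, -, l, -⟩ := ProjectivePlane.exists_config (P := P) (L := L)
  obtain ⟨x, hx⟩ := exists_point_mem (P := P) l
  obtain ⟨x', hx', hxx, -⟩ := exists_mem_ne l x x
  -- a Sylow subgroup of the stabilizer of two points of `l` is transitive on both pencils
  have trans : ∀ x x' : P, x ∈ l → x' ∈ l → x ≠ x' → ∀ R : Subgroup G,
      SylIn r R (stabilizer G x ⊓ stabilizer G x') → ∀ j j' : L, x ∈ j → j ≠ l → x ∈ j' → j' ≠ l →
        ∃ g ∈ R, g • j = j' := by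
    intro x x' hx hx' hne R hR j j' hj hjl hj' hjl'
    let S : L → Prop := fun m => x ∈ m ∧ m ≠ l
    have hnot : ∀ m, S m → x' ∉ m := fun m hm h => hm.2 (line_eq hne hm.1 h hx hx')
    have hinv : ∀ g ∈ stabilizer G x ⊓ stabilizer G x', ∀ m, S m → S (g • m) := fun g hg m hm =>
      ⟨mem_of_fix_point hg.1 hm.1, fun e => hm.2 (smul_left_cancel g
        (e.trans (fix_line hne hg.1 hg.2 hx hx').symm))⟩
    have hcard : Nat.card {m // S m} = n := by
      have h := card_pencil (L := L) x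
      rw [Nat.card_eq_fintype_card, Fintype.card_subtype] at h ⊢
      rw [← Finset.filter_filter, Finset.filter_ne', Finset.card_erase_of_mem (by simp [hx]), h]
      omega
    have hd := hR.dvd_orbit (S := S) (a := j) ⟨hj, hjl⟩ hinv (fun m hm => by
      obtain ⟨g, g1, g2, g3⟩ := h2.pencil hj (hnot j ⟨hj, hjl⟩) hm.1 (hnot m hm)
      exact ⟨g, ⟨g2, g1⟩, g3⟩) (e := a) (by rw [hcard, hn])
    let f : orbit R j → {m // S m} := fun m => ⟨m.1, by
      obtain ⟨g, hg⟩ := m.2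
      rw [← hg]
      exact hinv g (hR.le g.2) j ⟨hj, hjl⟩⟩
    have hf : Function.Injective f := fun m m' e =>
      Subtype.ext (congrArg (fun z : {m // S m} => z.1) e : m.1 = m'.1)
    have hpos : 0 < Nat.card (orbit R j) := by
      haveI : Nonempty (orbit R j) := ⟨⟨j, mem_orbit_self j⟩⟩
      exact Nat.card_pos
    have hb := (Nat.bijective_iff_injective_and_card f).2 ⟨hf, le_antisymm (Nat.card_le_card_of_injective f hf)
      (by rw [hcard, ← hn]; exact Nat.le_of_dvd hpos hd)⟩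
    obtain ⟨⟨m, g, hg⟩, hm⟩ := hb.2 ⟨j', hj', hjl'⟩
    exact ⟨g.1, g.2, (hg : g.1 • j = m).trans (congrArg Subtype.val hm)⟩
  obtain ⟨R, hR⟩ := exists_sylIn' r (stabilizer G x ⊓ stabilizer G x')
  have hne : R ≠ ⊥ := by
    intro e
    obtain ⟨j, hj, hjl, -⟩ := exists_line_ne x l l
    obtain ⟨j', hj', hjl', hjj⟩ := exists_line_ne x l j
    obtain ⟨g, hg, hgj⟩ := trans x x' hx hx' hxx.symm R hR j j' hj hjl hj' hjl'
    rw [e, Subgroup.mem_bot] at hg
    rw [hg, one_smul] at hgj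
    exact hjj hgj.symm
  obtain ⟨z, hzR, hz1, -, hzc⟩ := exists_central hR.isPGroup hne
  have nofix : ∀ u u' : P, u ∈ l → u' ∈ l → u ≠ u' → SylIn r R (stabilizer G u ⊓ stabilizer G u') →
      ∀ j : L, u ∈ j → j ≠ l → z • j ≠ j := by
    intro u u' hu hu' hne hR' j hj hjl hzj
    have hC : z ∈ Cent G (L := L) u := fun m hm => by
      by_cases hml : m = l
      · rw [hml]
        exact fix_line hne (hR'.le hzR).1 (hR'.le hzR).2 hu hu'
      obtain ⟨g, hg, rfl⟩ := trans u u' hu hu' hne R hR' j m hj hjl hm hml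
      rw [← mul_smul, ← hzc g hg, mul_smul, hzj]
    obtain ⟨m, hm⟩ := exists_axis hC
    exact hz1 (hno z m hm)
  have hoff : ∀ q, z • q = q → q ∈ l := fun q hq => by
    by_contra hql
    obtain ⟨j, hj1, hj2⟩ := exists_line (L := L) (pt_ne hx hql)
    exact nofix x x' hx hx' hxx.symm hR j hj1 (ne_of_not_mem hj2 hql) (fix_line (pt_ne hx hql) (hR.le hzR).1 hq hj1 hj2)
  -- a fixed line other than `l`
  obtain ⟨j, hjl, hzj⟩ : ∃ j, j ≠ l ∧ z • j = j := by
    by_contra h
    push Not at h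
    have h1 : Nat.card {m : L // z • m = m} ≤ 1 := by
      refine Finite.card_le_one_iff_subsingleton.2 ⟨fun m m' => Subtype.ext ?_⟩
      rw [show m.1 = l from by_contra fun e => h m e m.2, show m'.1 = l from by_contra fun e => h m' e m'.2]
    rw [← card_fixed_eq (P := P) z] at h1
    have h2' := Finite.card_le_one_iff_subsingleton.1 h1
    exact hxx (congrArg Subtype.val (@Subsingleton.elim _ h2' ⟨x', (hR.le hzR).2⟩ ⟨x, (hR.le hzR).1⟩))
  obtain ⟨u, hu1, hu2⟩ := exists_meet (P := P) hjl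
  have hzl : z • l = l := fix_line hxx.symm (hR.le hzR).1 (hR.le hzR).2 hx hx'
  have hzu : z • u = u := fix_point hjl hzj hzl hu1 hu2
  have hux : u ≠ x := fun e => nofix x x' hx hx' hxx.symm hR j (e ▸ hu1) hjl hzj
  have hRu : ∀ g ∈ R, g • u = u := by
    intro g hg
    have hgl : g • l = l := fix_line hxx.symm (hR.le hg).1 (hR.le hg).2 hx hx'
    have hgj : z • g • j = g • j := by rw [← mul_smul, ← hzc g hg, mul_smul, hzj]
    have hgjl : g • j ≠ l := fun e => hjl (smul_left_cancel g (e.trans hgl.symm))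
    by_cases e : g • j = j
    · exact fix_point hjl e hgl hu1 hu2
    obtain ⟨w, hw1, hw2⟩ := exists_meet (P := P) e
    have hwl := hoff w (fix_point e hgj hzj hw1 hw2)
    obtain rfl := point_eq hjl hw2 hu1 hwl hu2
    exact point_eq hgjl (mem_smul hw2) hw1 (mem_of_fix_line hgl hwl) hwl
  refine nofix u x hu2 hx hux ⟨fun g hg => ⟨hRu g hg, (hR.le hg).1⟩, ?_⟩ j hu1 hjl hzj
  rw [hR.card, card_pair_stab h2 hux hxx.symm]

end Cfsg.Agent.Lie.OW
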