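import Cfsg.Agent.Lib.Lie.OstromWagner.Existence
import Cfsg.Agent.Lib.Lie.OstromWagner.Coord

/-!
# The Ostrom–Wagner theorem

A finite projective plane with a two-point-transitive collineation group is Desarguesian.
-/

set_option autoImplicit false

namespace Cfsg.Agent.Lie.OW

open Configuration MulAction
open scoped LinearAlgebra.Projectivization

universe u v

variable {P : Type u} {L : Type v} [Membership P L]

variable (P L) in
/-- Pairs of permutations of points and lines preserving incidence. -/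
def collin : Subgroup (Equiv.Perm P × Equiv.Perm L) where
  carrier := {g | ∀ (p : P) (l : L), g.1 p ∈ g.2 l ↔ p ∈ l}
  one_mem' p l := Iff.rfl
  mul_mem' {a b} ha hb p l := (ha (b.1 p) (b.2 l)).trans (hb p l)
  inv_mem' {a} ha p l := by
    have := ha (a.1⁻¹ p) (a.2⁻¹ l)
    simp only [Equiv.Perm.coe_inv, Equiv.apply_symm_apply] at this
    exact this.symm

instance collinActP : MulAction (collin P L) P :=
  MulAction.compHom _ ((MonoidHom.fst (Equiv.Perm P) (Equiv.Perm L)).comp (collin P L).subtype)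

instance collinActL : MulAction (collin P L) L :=
  MulAction.compHom _ ((MonoidHom.snd (Equiv.Perm P) (Equiv.Perm L)).comp (collin P L).subtype)

instance collinActs : Acts (collin P L) P L := ⟨fun g p l => g.2 p l⟩

variable [ProjectivePlane P L] [Fintype P] [Fintype L]

instance collinFaithful : FaithfulSMul (collin P L) P where
  eq_of_smul_eq_smul {g g'} h := by
    have hP : g.1.1 = g'.1.1 := Equiv.ext h
    refine Subtype.ext (Prod.ext hP (Equiv.ext fun l => ?_))
    obtain ⟨a, ha⟩ := exists_point_mem (P := P) l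
    obtain ⟨b, hb, hba, -⟩ := exists_mem_ne l a a
    have ha' : g.1.1 a ∈ g.1.2 l := (g.2 a l).2 ha
    have hb' : g.1.1 b ∈ g.1.2 l := (g.2 b l).2 hb
    exact line_eq (fun e => hba (g.1.1.injective e).symm) ha' hb'
      (hP ▸ (g'.2 a l).2 ha) (hP ▸ (g'.2 b l).2 hb)

/-- The Ostrom–Wagner theorem. -/
theorem desarguesian
    (h2t : ∀ p₁ p₂ q₁ q₂ : P, p₁ ≠ p₂ → q₁ ≠ q₂ → ∃ (σ : Equiv.Perm P) (τ : Equiv.Perm L),
      (∀ (p : P) (l : L), σ p ∈ τ l ↔ p ∈ l) ∧ σ p₁ = q₁ ∧ σ p₂ = q₂) :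
    ∃ (F : Type) (_ : Field F) (_ : Fintype F) (φ : P ≃ ℙ F (Fin 3 → F)),
      (∀ l : L, ∃ W : Submodule F (Fin 3 → F), Module.finrank F W = 2 ∧
          ∀ p : P, p ∈ l ↔ (φ p).submodule ≤ W) ∧
      (∀ W : Submodule F (Fin 3 → F), Module.finrank F W = 2 →
          ∃ l : L, ∀ p : P, p ∈ l ↔ (φ p).submodule ≤ W) := by
  classical
  have h2 : TwoTrans (collin P L) P := fun p₁ p₂ q₁ q₂ hp hq => by
    obtain ⟨σ, τ, h, h1, h2⟩ := h2t p₁ p₂ q₁ q₂ hp hq
    exact ⟨⟨(σ, τ), h⟩, h1, h2⟩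
  obtain ⟨g, l₀, hg1, hg⟩ := exists_perspectivity (L := L) h2
  have ht := translation h2 hg hg1
  exact Moufang.exists_coordinates (G := collin P L)
    ⟨fun l => (ht l).1, fun l u hu => (ht l).2.1 u hu, fun l => (ht l).2.2⟩

end Cfsg.Agent.Lie.OW
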