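import Cfsg.Agent.Lib.Lie.OstromWagner.Transitive
import Mathlib.Algebra.Field.ZMod
import Mathlib.GroupTheory.Perm.Cycle.Type

/-!
# Perspectivities: axes, centres, elations
-/

set_option autoImplicit false

namespace Cfsg.Agent.Lie.OW

open Configuration MulAction

universe u v w

variable (G : Type w) [Group G] {P : Type u} {L : Type v} [Membership P L]

/-- Elements fixing every point of a line. -/
def Ax [MulAction G P] (l : L) : Subgroup G where
  carrier := {g | ∀ p : P, p ∈ l → g • p = p}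
  one_mem' p _ := one_smul G p
  mul_mem' ha hb p hp := by rw [mul_smul, hb p hp, ha p hp]
  inv_mem' ha p hp := by rw [inv_smul_eq_iff, ha p hp]

/-- Elements fixing every line through a point. -/
def Cent [MulAction G L] (c : P) : Subgroup G where
  carrier := {g | ∀ l : L, c ∈ l → g • l = l}
  one_mem' p _ := one_smul G p
  mul_mem' ha hb p hp := by rw [mul_smul, hb p hp, ha p hp]
  inv_mem' ha p hp := by rw [inv_smul_eq_iff, ha p hp]

variable {G}

theorem even_card_of_involution {X : Type*} [Fintype X] (f : X → X) (h1 : Function.Involutive f)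
    (h2 : ∀ x, f x ≠ x) : Even (Fintype.card X) := by
  have h : (∑ _x : X, (1 : ZMod 2)) = 0 :=
    Finset.sum_involution (fun a _ => f a) (fun _ _ => by decide) (fun a _ _ => h2 a)
      (fun _ _ => Finset.mem_univ _) fun a _ => h1 a
  rw [Finset.sum_const, nsmul_eq_mul, mul_one, Finset.card_univ] at h
  exact even_iff_two_dvd.2 ((ZMod.natCast_eq_zero_iff_even).1 h |> even_iff_two_dvd.1)

variable [MulAction G P] [MulAction G L] [Acts G P L]

omit [MulAction G L] [Acts G P L] in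
theorem mem_ax {g : G} {l : L} : g ∈ Ax G (P := P) l ↔ ∀ p : P, p ∈ l → g • p = p := Iff.rfl

omit [MulAction G P] [Acts G P L] in
theorem mem_cent {g : G} {c : P} : g ∈ Cent G (L := L) c ↔ ∀ l : L, c ∈ l → g • l = l := Iff.rfl

theorem ax_conj {g h : G} {l : L} (hg : g ∈ Ax G (P := P) l) : h * g * h⁻¹ ∈ Ax G (P := P) (h • l) :=
  fun p hp => by
    have : h⁻¹ • p ∈ l := by
      rwa [← Acts.mem_iff h, smul_inv_smul]
    rw [mul_smul, mul_smul, hg _ this, smul_inv_smul]

theorem cent_conj {g h : G} {c : P} (hg : g ∈ Cent G (L := L) c) : h * g * h⁻¹ ∈ Cent G (L := L) (h • c) :=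
  fun l hl => by
    have : c ∈ h⁻¹ • l := by
      rwa [← Acts.mem_iff h, smul_inv_smul]
    rw [mul_smul, mul_smul, hg _ this, smul_inv_smul]

variable [ProjectivePlane P L]

theorem ax_fix_line {g : G} {l : L} [Fintype P] [Fintype L] (hg : g ∈ Ax G (P := P) l) : g • l = l := by
  obtain ⟨a, ha⟩ := exists_point_mem (P := P) l
  obtain ⟨b, hb, hab, -⟩ := exists_mem_ne l a a
  exact fix_line hab.symm (hg a ha) (hg b hb) ha hb

variable [Fintype P] [Fintype L]

theorem cent_fix {g : G} {c : P} (hg : g ∈ Cent G (L := L) c) : g • c = c :=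
  ax_fix_line (P := Dual L) (L := Dual P) hg

theorem ax_fix_through {g : G} {l : L} {c : P} (hg : g ∈ Ax G (P := P) l) (hc : c ∉ l)
    (hgc : g • c = c) : g ∈ Cent G (L := L) c := fun j hj => by
  obtain ⟨u, hu1, hu2⟩ := exists_meet (P := P) (ne_of_not_mem hj hc)
  exact fix_line (pt_ne hu2 hc) (hg u hu2) hgc hu1 hj

theorem exists_center {g : G} {l : L} (hg : g ∈ Ax G (P := P) l) :
    ∃ c : P, g ∈ Cent G (L := L) c := by
  by_cases h : ∃ c, c ∉ l ∧ g • c = c
  · obtain ⟨c, hc, hgc⟩ := h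
    exact ⟨c, ax_fix_through hg hc hgc⟩
  push Not at h
  -- through every point off `l` passes a fixed line
  have key : ∀ q, q ∉ l → ∃ j : L, q ∈ j ∧ g • j = j := by
    intro q hq
    obtain ⟨j, hj1, hj2⟩ := exists_line (L := L) (h q hq)
    have hjl : j ≠ l := ne_of_not_mem hj2 hq
    obtain ⟨u, hu1, hu2⟩ := exists_meet (P := P) hjl
    have hgq : g • q ∉ l := not_mem_of_fix_line (ax_fix_line hg) hq
    refine ⟨j, hj2, line_eq (pt_ne hu2 hgq) ?_ (mem_smul hj2) hu1 hj1⟩
    exact mem_of_fix_point (hg u hu2) hu1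
  obtain ⟨q₀, hq₀⟩ := Nondegenerate.exists_point (P := P) l
  obtain ⟨j₀, hj0, hj0'⟩ := key q₀ hq₀
  obtain ⟨u, hu1, hu2⟩ := exists_meet (P := P) (ne_of_not_mem hj0 hq₀)
  refine ⟨u, fun j hj => ?_⟩
  by_cases hjl : j = l
  · rw [hjl]; exact ax_fix_line hg
  obtain ⟨q, hq, hqu, -⟩ := exists_mem_ne j u u
  have hql : q ∉ l := fun h' => hqu (point_eq hjl hq hj h' hu2)
  obtain ⟨j', hj', hgj'⟩ := key q hql
  have huj' : u ∈ j' := by
    by_cases he : j' = j₀
    · rw [he]; exact hu1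
    obtain ⟨r, hr1, hr2⟩ := exists_meet (P := P) he
    have hr : r ∈ l := by
      by_contra hr
      exact h r hr (fix_point he hgj' hj0' hr1 hr2)
    rwa [point_eq (ne_of_not_mem hj0 hq₀) hu1 hr2 hu2 hr]
  rw [line_eq (Ne.symm hqu) hj hq huj' hj']
  exact hgj'

theorem exists_axis {g : G} {c : P} (hg : g ∈ Cent G (L := L) c) : ∃ l : L, g ∈ Ax G (P := P) l :=
  exists_center (P := Dual L) (L := Dual P) hg

variable [FaithfulSMul G P]

theorem eq_one_of_two {g : G} {l : L} (hg : g ∈ Ax G (P := P) l) {c d : P} (hc : c ∉ l) (hd : d ∉ l)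
    (hcd : c ≠ d) (hgc : g • c = c) (hgd : g • d = d) : g = 1 := by
  have h1 := ax_fix_through hg hc hgc
  have h2 := ax_fix_through hg hd hgd
  obtain ⟨j, hj1, hj2⟩ := exists_line (L := L) hcd
  have hoff : ∀ q, q ∉ j → g • q = q := fun q hq => by
    obtain ⟨a, ha1, ha2⟩ := exists_line (L := L) (pt_ne hj1 hq)
    obtain ⟨b, hb1, hb2⟩ := exists_line (L := L) (pt_ne hj2 hq)
    have hab : a ≠ b := fun h => by
      subst h
      exact hq (line_eq hcd ha1 hb1 hj1 hj2 ▸ ha2)
    exact fix_point hab (h1 a ha1) (h2 b hb1) ha2 hb2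
  obtain ⟨r, hr1, hr2⟩ := exists_off (P := P) j l
  have hrc := ax_fix_through hg hr2 (hoff r hr1)
  refine eq_one_of_fix (P := P) fun q => ?_
  by_cases hq : q ∈ j
  · obtain ⟨a, ha1, ha2⟩ := exists_line (L := L) (pt_ne hq hr1).symm
    exact fix_point (ne_of_not_mem ha1 hr1) (hrc a ha1) (h1 j hj1) ha2 hq
  · exact hoff q hq

theorem ax_unique {g : G} {l m : L} (hl : g ∈ Ax G (P := P) l) (hm : g ∈ Ax G (P := P) m)
    (hne : g ≠ 1) : l = m := by
  by_contra h
  obtain ⟨o, ho1, ho2⟩ := exists_meet (P := P) h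
  obtain ⟨a, ha, hao, -⟩ := exists_mem_ne m o o
  obtain ⟨b, hb, hbo, hba⟩ := exists_mem_ne m o a
  exact hne (eq_one_of_two hl (fun h' => hao (point_eq h h' ho1 ha ho2))
    (fun h' => hbo (point_eq h h' ho1 hb ho2)) hba.symm (hm a ha) (hm b hb))

theorem cent_unique {g : G} {c d : P} (hc : g ∈ Cent G (L := L) c) (hd : g ∈ Cent G (L := L) d)
    (hne : g ≠ 1) : c = d :=
  ax_unique (P := Dual L) (L := Dual P) hc hd hne

theorem fix_cases {g : G} {l : L} {c : P} (hl : g ∈ Ax G (P := P) l) (hc : g ∈ Cent G (L := L) c)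
    (hne : g ≠ 1) {q : P} (hq : g • q = q) : q ∈ l ∨ q = c :=
  or_iff_not_imp_left.2 fun h => cent_unique (ax_fix_through hl h hq) hc hne

theorem line_cases {g : G} {l : L} {c : P} (hl : g ∈ Ax G (P := P) l) (hc : g ∈ Cent G (L := L) c)
    (hne : g ≠ 1) {j : L} (hj : g • j = j) : c ∈ j ∨ j = l :=
  fix_cases (P := Dual L) (L := Dual P) hc hl hne hj

variable (G) in
/-- The elations with axis `l`. -/
def Elat (l : L) : Subgroup G where
  carrier := {g | g ∈ Ax G (P := P) l ∧ ∃ u, u ∈ l ∧ g ∈ Cent G (L := L) u}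
  one_mem' := by
    obtain ⟨u, hu⟩ := exists_point_mem (P := P) l
    exact ⟨one_mem _, u, hu, one_mem _⟩
  inv_mem' := by
    rintro g ⟨hg, u, hu, hgu⟩
    exact ⟨inv_mem hg, u, hu, inv_mem hgu⟩
  mul_mem' := by
    rintro a b ⟨ha, u, hu, hau⟩ ⟨hb, w, hw, hbw⟩
    refine ⟨mul_mem ha hb, ?_⟩
    by_cases ha1 : a = 1
    · exact ⟨w, hw, by rw [ha1, one_mul]; exact hbw⟩
    by_cases hb1 : b = 1
    · exact ⟨u, hu, by rw [hb1, mul_one]; exact hau⟩
    by_cases huw : u = w
    · subst huw; exact ⟨u, hu, mul_mem hau hbw⟩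
    obtain ⟨v, hv⟩ := exists_center (mul_mem ha hb)
    refine ⟨v, by_contra fun hvl => ?_, hv⟩
    have hfix : a • b • v = v := by rw [← mul_smul]; exact cent_fix hv
    by_cases hbv : b • v = v
    · rcases fix_cases hb hbw hb1 hbv with h | h
      · exact hvl h
      · exact hvl (h ▸ hw)
    obtain ⟨j, hj1, hj2⟩ := exists_line (L := L) hbv
    have hjl : j ≠ l := ne_of_not_mem hj2 hvl
    obtain ⟨ju, hju1, hju2⟩ := exists_line (L := L) (pt_ne hw hvl).symm
    have hjw : w ∈ j := by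
      have : b • ju = ju := hbw ju hju2
      rwa [line_eq (Ne.symm hbv) hj2 hj1 hju1 (mem_of_fix_line this hju1)]
    have hbvl : b • v ∉ l := not_mem_of_fix_line (ax_fix_line hb) hvl
    obtain ⟨k, hk1, hk2⟩ := exists_line (L := L) (pt_ne hu hbvl)
    have : a • b • v ∈ k := mem_of_fix_line (hau k hk1) hk2
    rw [hfix] at this
    rw [line_eq (Ne.symm hbv) this hk2 hj2 hj1] at hk1
    exact huw (point_eq hjl hk1 hjw hu hw)

theorem mem_elat {g : G} {l : L} :
    g ∈ Elat G (P := P) l ↔ g ∈ Ax G (P := P) l ∧ ∃ u : P, u ∈ l ∧ g ∈ Cent G (L := L) u := Iff.rfl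

theorem elat_free {g : G} {l : L} (hg : g ∈ Elat G (P := P) l) (hne : g ≠ 1) {q : P} (hq : q ∉ l) :
    g • q ≠ q := fun h => by
  obtain ⟨hl, u, hu, hgu⟩ := hg
  rcases fix_cases hl hgu hne h with h' | h'
  · exact hq h'
  · exact hq (h' ▸ hu)

theorem elat_center {g : G} {l : L} {c : P} (hg : g ∈ Elat G (P := P) l) (hne : g ≠ 1)
    (hc : g ∈ Cent G (L := L) c) : c ∈ l := by
  obtain ⟨-, u, hu, hgu⟩ := hg
  rwa [cent_unique hc hgu hne]

theorem elat_conj {g h : G} {l : L} (hg : g ∈ Elat G (P := P) l) :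
    h * g * h⁻¹ ∈ Elat G (P := P) (h • l) := by
  obtain ⟨hl, u, hu, hgu⟩ := hg
  exact ⟨ax_conj hl, h • u, mem_smul hu, cent_conj hgu⟩

theorem mem_elat_of_free {g : G} {l : L} (hg : g ∈ Ax G (P := P) l)
    (h : ∀ q : P, q ∉ l → g • q ≠ q) : g ∈ Elat G (P := P) l := by
  obtain ⟨c, hc⟩ := exists_center hg
  exact ⟨hg, c, by_contra fun hcl => h c hcl (cent_fix hc), hc⟩

/-- An involution with an axis is a homology in odd order. -/
theorem exists_center_off (hodd : Odd (ProjectivePlane.order P L)) {g : G} {l : L}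
    (hg : g ∈ Ax G (P := P) l) (h2 : g * g = 1) : ∃ c, c ∉ l ∧ g ∈ Cent G (L := L) c := by
  classical
  suffices h : ∃ c, c ∉ l ∧ g • c = c by
    obtain ⟨c, hc, hgc⟩ := h
    exact ⟨c, hc, ax_fix_through hg hc hgc⟩
  by_contra h
  push Not at h
  have := even_card_of_involution
    (fun q : {q : P // q ∉ l} => (⟨g • q.1, not_mem_of_fix_line (ax_fix_line hg) q.2⟩ : {q : P // q ∉ l}))
    (fun q => Subtype.ext (show g • g • q.1 = q.1 by rw [← mul_smul, h2, one_smul]))
    (fun q hq => h q q.2 (congrArg Subtype.val hq))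
  rw [← Nat.card_eq_fintype_card, card_off, Nat.even_pow] at this
  exact Nat.not_even_iff_odd.2 hodd this.1

/-- The product of two involutory homologies with the same axis and different centres is an elation. -/
theorem homology_mul {h h' : G} {l : L} {c c' : P} (hl : h ∈ Ax G (P := P) l)
    (hl' : h' ∈ Ax G (P := P) l) (hc : h ∈ Cent G (L := L) c) (hc' : h' ∈ Cent G (L := L) c')
    (h2 : h * h = 1) (h2' : h' * h' = 1) (hne : h ≠ 1) (hne' : h' ≠ 1) (hcl' : c' ∉ l)
    (hcl : c ∉ l) (hcc : c ≠ c') : h * h' ∈ Elat G (P := P) l ∧ h * h' ≠ 1 := by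
  have he : h * h' ≠ 1 := fun he => hcc (by
    have : h' = h := by
      rw [← one_mul h', ← h2, mul_assoc, he, mul_one]
    subst this
    exact cent_unique hc hc' hne)
  refine ⟨mem_elat_of_free (mul_mem hl hl') fun q hq heq => ?_, he⟩
  have hq1 := ax_fix_through (mul_mem hl hl') hq heq
  have hinv : h * (h * h') * h⁻¹ = (h * h')⁻¹ := by
    rw [mul_inv_rev, inv_eq_of_mul_eq_one_right h2, inv_eq_of_mul_eq_one_right h2', ← mul_assoc h h,
      h2, one_mul]
  have hhq : h • q = q := cent_unique (hinv ▸ cent_conj hq1) (inv_mem hq1) (inv_ne_one.2 he)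
  rcases fix_cases hl hc hne hhq with h' | rfl
  · exact hq h'
  · rw [mul_smul, smul_eq_iff_eq_inv_smul, inv_eq_of_mul_eq_one_right h2, hhq] at heq
    rcases fix_cases hl' hc' hne' heq with h' | h'
    · exact hcl h'
    · exact hcc h'

theorem commute_of_ne {e f : G} {l : L} {u w : P} (he : e ∈ Ax G (P := P) l)
    (hf : f ∈ Ax G (P := P) l) (heu : e ∈ Cent G (L := L) u) (hfw : f ∈ Cent G (L := L) w)
    (hu : u ∈ l) (hw : w ∈ l) (huw : u ≠ w) : e * f = f * e := by
  have h1 : e * f * e⁻¹ * f⁻¹ ∈ Cent G (L := L) w := by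
    refine mul_mem ?_ (inv_mem hfw)
    have := cent_conj (h := e) hfw
    rwa [he w hw] at this
  have h2 : e * f * e⁻¹ * f⁻¹ ∈ Cent G (L := L) u := by
    rw [show e * f * e⁻¹ * f⁻¹ = e * (f * e⁻¹ * f⁻¹) by group]
    refine mul_mem heu ?_
    have := cent_conj (h := f) (inv_mem heu)
    rwa [hf u hu] at this
  have : e * f * e⁻¹ * f⁻¹ = 1 := by_contra fun hne => huw (cent_unique h2 h1 hne)
  rw [mul_inv_eq_one, mul_inv_eq_iff_eq_mul] at this
  exact this

/-- A group of elations with a common axis and two different centres is a `p`-group of prime exponent. -/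
theorem exists_prime_exponent [Finite G] {E : Subgroup G} {l : L} (hE : E ≤ Elat G (P := P) l)
    (hne : E ≠ ⊥) (htwo : ∀ u : P, ¬ E ≤ Cent G (L := L) u) :
    ∃ r : ℕ, r.Prime ∧ (∀ g ∈ E, g ^ r = 1) ∧ ∀ g ∈ E, ∀ g' ∈ E, g * g' = g' * g := by
  obtain ⟨r, hr, ⟨e, heE⟩, hre⟩ : ∃ r : ℕ, r.Prime ∧ ∃ e : E, orderOf e = r := by
    have hc : Nat.card E ≠ 1 := fun h => hne (Subgroup.card_eq_one.1 h)
    haveI := Fact.mk (Nat.minFac_prime hc)
    exact ⟨_, Nat.minFac_prime hc, exists_prime_orderOf_dvd_card' _ (Nat.minFac_dvd _)⟩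
  have he1 : e ≠ 1 := fun h => hr.one_lt.ne' (by rw [← hre, orderOf_eq_one_iff]; exact Subtype.ext h)
  have her : e ^ r = 1 := by
    rw [← hre, Subgroup.orderOf_mk]; exact pow_orderOf_eq_one e
  obtain ⟨hel, u, hu, heu⟩ := hE heE
  have comm : ∀ g ∈ E, ∀ g' ∈ E, g * g' = g' * g := by
    intro g hg g' hg'
    obtain ⟨hgl, a, ha, hga⟩ := hE hg
    obtain ⟨hgl', b, hb, hgb⟩ := hE hg'
    by_cases hab : a = b
    · subst hab
      obtain ⟨f, hf, hfa⟩ := SetLike.not_le_iff_exists.1 (htwo a)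
      obtain ⟨hfl, w, hw, hfw⟩ := hE hf
      have hwa : a ≠ w := fun h => hfa (h ▸ hfw)
      obtain ⟨hpl, v, hv, hpv⟩ := hE (mul_mem hg' hf)
      have hva : a ≠ v := fun h => hfa ((Subgroup.mul_mem_cancel_left _ hgb).1 (h ▸ hpv))
      have c1 := commute_of_ne hgl hfl hga hfw ha hw hwa
      have c2 := commute_of_ne hgl hpl hga hpv ha hv hva
      refine mul_right_cancel (b := f) ?_
      rw [mul_assoc, c2, mul_assoc g' g f, c1, mul_assoc]
    · exact commute_of_ne hgl hgl' hga hgb ha hb hab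
  have hout : ∀ f ∈ E, f ∉ Cent G (L := L) u → f ^ r = 1 := by
    intro f hf hfu
    obtain ⟨hfl, w, hw, hfw⟩ := hE hf
    obtain ⟨hpl, v, hv, hpv⟩ := hE (mul_mem heE hf)
    have hwu : u ≠ w := fun h => hfu (h ▸ hfw)
    have hvw : v ≠ w := fun h => hwu (cent_unique heu
      ((Subgroup.mul_mem_cancel_right _ hfw).1 (h ▸ hpv)) he1)
    have hpow : (e * f) ^ r = f ^ r := by
      rw [Commute.mul_pow (show Commute e f from comm e heE f hf), her, one_mul]
    by_contra hne'
    exact hvw (cent_unique (hpow ▸ pow_mem hpv r) (pow_mem hfw r) hne')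
  refine ⟨r, hr, fun g hg => ?_, comm⟩
  by_cases hgu : g ∈ Cent G (L := L) u
  · obtain ⟨f, hf, hfu⟩ := SetLike.not_le_iff_exists.1 (htwo u)
    have h1 := hout (g * f) (mul_mem hg hf) fun h => hfu ((Subgroup.mul_mem_cancel_left _ hgu).1 h)
    rwa [Commute.mul_pow (show Commute g f from comm g hg f hf), hout f hf hfu, mul_one] at h1
  · exact hout g hg hgu

/-- `[E : E_x]` divides `n` for the elation group `E` with axis `l`. -/
theorem elat_index_dvd [Finite G] {l : L} {x : P} (hx : x ∈ l) :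
    ∃ t, 0 < t ∧ t ∣ ProjectivePlane.order P L ∧
      Nat.card (Elat G (P := P) l) = t * Nat.card ↥(Elat G (P := P) l ⊓ Cent G (L := L) x) := by
  classical
  set E := Elat G (P := P) l
  have horb : ∀ j : L, x ∈ j → j ≠ l →
      Nat.card (orbit E j) * Nat.card ↥(E ⊓ Cent G (L := L) x) = Nat.card E := by
    intro j hj hjl
    have heq : E ⊓ stabilizer G j = E ⊓ Cent G (L := L) x := by
      ext g
      simp only [Subgroup.mem_inf]
      refine and_congr_right fun hg => ⟨fun h => ?_, fun h => h j hj⟩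
      obtain ⟨hA, u, hu, hgu⟩ := hg
      by_cases h1 : g = 1
      · rw [h1]; exact one_mem _
      rcases line_cases hA hgu h1 h with h' | h'
      · rwa [point_eq hjl h' hj hu hx] at hgu
      · exact absurd h' hjl
    rw [← heq, card_stab_mul]
  obtain ⟨j₀, hj₀, hj₀l, -⟩ := exists_line_ne x l l
  refine ⟨Nat.card (orbit E j₀), ?_, ?_, (horb j₀ hj₀ hj₀l).symm⟩
  · haveI : Nonempty (orbit E j₀) := ⟨⟨j₀, mem_orbit_self j₀⟩⟩
    exact Nat.card_pos
  · have hcard : Nat.card {j : L // x ∈ j ∧ j ≠ l} = ProjectivePlane.order P L := by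
      have h := card_pencil (L := L) x
      rw [Nat.card_eq_fintype_card, Fintype.card_subtype] at h ⊢
      rw [← Finset.filter_filter, Finset.filter_ne', Finset.card_erase_of_mem (by simp [hx]), h]
      omega
    rw [← hcard]
    refine dvd_card_of_dvd_orbit E (fun g hg b hb => ?_) fun b hb => ?_
    · have hgl : g • l = l := ax_fix_line hg.1
      refine ⟨?_, fun e => hb.2 (smul_left_cancel g (e.trans hgl.symm))⟩
      exact mem_of_fix_point (hg.1 x hx) hb.1
    · exact dvd_of_eq (Nat.eq_of_mul_eq_mul_right Nat.card_pos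
        ((horb j₀ hj₀ hj₀l).trans (horb b hb.1 hb.2).symm))

end Cfsg.Agent.Lie.OW
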