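import Cfsg.Agent.Lib.Lie.OstromWagner.Basic
import Mathlib.GroupTheory.Sylow
import Mathlib.Data.Nat.Factorization.Basic

/-!
# Transitivity consequences of two-point transitivity

A collineation group which is `2`-transitive on points is transitive on flags, anti-flags, and on
triples (flag, point off its line). Also tools on Sylow subgroups of subgroups.
-/

set_option autoImplicit false

namespace Cfsg.Agent.Lie.OW

open Configuration MulAction

universe u v w

variable {G : Type w} [Group G] {α : Type*} [MulAction G α]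

/-- Two-point transitivity. -/
def TwoTrans (G : Type w) (P : Type u) [SMul G P] : Prop :=
  ∀ p₁ p₂ q₁ q₂ : P, p₁ ≠ p₂ → q₁ ≠ q₂ → ∃ g : G, g • p₁ = q₁ ∧ g • p₂ = q₂

theorem card_stab_mul (H : Subgroup G) (a : α) :
    Nat.card (orbit H a) * Nat.card ↥(H ⊓ stabilizer G a) = Nat.card H := by
  have e : Nat.card (stabilizer H a) = Nat.card ↥(H ⊓ stabilizer G a) :=
    Nat.card_congr
      { toFun := fun x => ⟨x.1.1, x.1.2, x.2⟩
        invFun := fun x => ⟨⟨x.1, x.2.1⟩, x.2.2⟩
        left_inv := fun _ => rfl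
        right_inv := fun _ => rfl }
  rw [Nat.card_coe_set_eq, ← index_stabilizer, ← e, mul_comm, Subgroup.card_mul_index]

/-- Orbit–stabilizer for a transitive invariant set. -/
theorem card_mul_stab (H : Subgroup G) {S : α → Prop} {a : α} (ha : S a)
    (hinv : ∀ g ∈ H, ∀ b, S b → S (g • b)) (htr : ∀ b, S b → ∃ g ∈ H, g • a = b) :
    Nat.card {b // S b} * Nat.card ↥(H ⊓ stabilizer G a) = Nat.card H := by
  rw [← card_stab_mul H a]
  congr 1
  refine Nat.card_congr (Equiv.subtypeEquivRight fun b => ⟨fun hb => ?_, ?_⟩)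
  · obtain ⟨g, hg, rfl⟩ := htr b hb
    exact ⟨⟨g, hg⟩, rfl⟩
  · rintro ⟨⟨g, hg⟩, rfl⟩
    exact hinv g hg a ha

theorem smul_mem_stab_iff {g : G} {a : α} : g ∈ stabilizer G a ↔ g • a = a := Iff.rfl

/-- `R` is a Sylow `p`-subgroup of `H`. -/
structure SylIn (p : ℕ) (R H : Subgroup G) : Prop where
  le : R ≤ H
  card : Nat.card R = p ^ (Nat.card H).factorization p

theorem SylIn.isPGroup {p : ℕ} {R H : Subgroup G} (h : SylIn p R H) : IsPGroup p R :=
  IsPGroup.of_card h.card

theorem exists_sylIn [Finite G] (p : ℕ) [Fact p.Prime] {Q H : Subgroup G} (hQ : IsPGroup p Q)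
    (hle : Q ≤ H) : ∃ R, SylIn p R H ∧ Q ≤ R := by
  obtain ⟨S, hS⟩ := (hQ.of_equiv (Subgroup.subgroupOfEquivOfLe hle).symm).exists_le_sylow
  refine ⟨(S : Subgroup H).map H.subtype, ⟨Subgroup.map_subtype_le _, ?_⟩, fun x hx =>
    ⟨⟨x, hle hx⟩, hS hx, rfl⟩⟩
  rw [Subgroup.card_map_of_injective H.subtype_injective, S.card_eq_multiplicity]

theorem exists_sylIn' [Finite G] (p : ℕ) [Fact p.Prime] (H : Subgroup G) : ∃ R, SylIn p R H := by
  obtain ⟨R, hR, -⟩ := exists_sylIn p (H := H) (IsPGroup.of_bot (p := p) (G := G)) bot_le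
  exact ⟨R, hR⟩

theorem SylIn.eq_of_le [Finite G] {p : ℕ} [hp : Fact p.Prime] {R R' H : Subgroup G} (h : SylIn p R H)
    (hle : R ≤ R') (hle' : R' ≤ H) (hp' : IsPGroup p R') : R' = R := by
  refine (Subgroup.eq_of_le_of_card_ge hle ?_).symm
  obtain ⟨j, hj⟩ := IsPGroup.iff_card.1 hp'
  rw [h.card, hj]
  refine Nat.pow_le_pow_right hp.1.pos ?_
  rw [← hp.1.pow_dvd_iff_le_factorization Nat.card_pos.ne', ← hj]
  exact Subgroup.card_dvd_of_le hle'

/-- A Sylow subgroup has long orbits on a set on which the group is transitive. -/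
theorem SylIn.dvd_orbit [Finite G] {p : ℕ} [hp : Fact p.Prime] {R H : Subgroup G} (h : SylIn p R H)
    {S : α → Prop} {a : α} (ha : S a) (hinv : ∀ g ∈ H, ∀ b, S b → S (g • b))
    (htr : ∀ b, S b → ∃ g ∈ H, g • a = b) {e : ℕ} (he : p ^ e ∣ Nat.card {b // S b}) :
    p ^ e ∣ Nat.card (orbit R a) := by
  have h1 := card_mul_stab H ha hinv htr
  have h2 := card_stab_mul R a
  obtain ⟨j, hj⟩ := IsPGroup.iff_card.1
    (h.isPGroup.to_le (inf_le_left : R ⊓ stabilizer G a ≤ R))
  have hd : p ^ j ∣ Nat.card ↥(H ⊓ stabilizer G a) := by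
    rw [← hj]
    exact Subgroup.card_dvd_of_le (inf_le_inf_right _ h.le)
  have h3 : p ^ (e + j) ∣ Nat.card H := by
    rw [pow_add, ← h1]; exact mul_dvd_mul he hd
  have h4 : e + j ≤ (Nat.card H).factorization p :=
    (hp.1.pow_dvd_iff_le_factorization Nat.card_pos.ne').1 h3
  have h5 : Nat.card (orbit R a) * p ^ j = p ^ (Nat.card H).factorization p := by
    rw [← hj, h2, h.card]
  refine ⟨p ^ ((Nat.card H).factorization p - (e + j)), Nat.eq_of_mul_eq_mul_right (pow_pos hp.1.pos j) ?_⟩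
  rw [h5, ← pow_add, ← pow_add]
  congr 1
  omega

/-- An invariant set all of whose orbits have size divisible by `d`. -/
theorem dvd_card_of_dvd_orbit [Finite α] (R : Subgroup G) {d : ℕ} {S : α → Prop}
    (hinv : ∀ g ∈ R, ∀ b, S b → S (g • b)) (h : ∀ b, S b → d ∣ Nat.card (orbit R b)) :
    d ∣ Nat.card {b // S b} := by
  classical
  cases nonempty_fintype α
  suffices key : ∀ s : Finset α, (∀ g ∈ R, ∀ b ∈ s, g • b ∈ s) →
      (∀ b ∈ s, d ∣ Nat.card (orbit R b)) → d ∣ s.card by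
    rw [Nat.card_eq_fintype_card, Fintype.card_subtype]
    exact key _ (fun g hg b hb => by simpa using hinv g hg b (by simpa using hb))
      fun b hb => h b (by simpa using hb)
  intro s
  induction s using Finset.strongInductionOn with
  | _ s ih =>
    intro hs hd
    rcases s.eq_empty_or_nonempty with rfl | ⟨a, ha⟩
    · simp
    set o := Finset.univ.filter fun b => b ∈ orbit R a with ho
    have hsub : o ⊆ s := fun b hb => by
      obtain ⟨g, rfl⟩ := (Finset.mem_filter.1 hb).2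
      exact hs g g.2 a ha
    rw [← Finset.card_sdiff_add_card_eq_card hsub]
    refine dvd_add (ih _ ?_ ?_ ?_) ?_
    · exact (Finset.ssubset_iff_of_subset Finset.sdiff_subset).2
        ⟨a, ha, fun h => (Finset.mem_sdiff.1 h).2 (by simp [ho])⟩
    · intro g hg b hb
      rw [Finset.mem_sdiff] at hb ⊢
      refine ⟨hs g hg b hb.1, fun hb' => hb.2 ?_⟩
      simp only [ho, Finset.mem_filter, Finset.mem_univ, true_and] at hb' ⊢
      obtain ⟨k, hk⟩ := hb'
      exact ⟨(⟨g, hg⟩ : R)⁻¹ * k, by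
        change k • a = g • b at hk
        show ((⟨g, hg⟩ : R)⁻¹ * k) • a = b
        rw [mul_smul, hk, inv_smul_eq_iff]; rfl⟩
    · exact fun b hb => hd b (Finset.mem_sdiff.1 hb).1
    · have : o.card = Nat.card (orbit R a) := by
        rw [ho, ← Fintype.card_subtype, ← Nat.card_eq_fintype_card]
      rw [this]; exact hd a ha

section Plane

variable {P : Type u} {L : Type v} [Membership P L] [ProjectivePlane P L] [Fintype P] [Fintype L]
  [MulAction G P] [MulAction G L] [Acts G P L]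

local notation "n" => ProjectivePlane.order P L

theorem card_orbits_eq [Finite G] (H : Subgroup G) :
    Nat.card (orbitRel.Quotient H P) = Nat.card (orbitRel.Quotient H L) := by
  classical
  cases nonempty_fintype G
  haveI : Acts H P L := ⟨fun g p l => Acts.mem_iff (g : G) p l⟩
  have h1 := sum_card_fixedBy_eq_card_orbits_mul_card_group H P
  have h2 := sum_card_fixedBy_eq_card_orbits_mul_card_group H L
  have h3 : ∀ g : H, Fintype.card (fixedBy P g) = Fintype.card (fixedBy L g) := fun g => by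
    rw [← Nat.card_eq_fintype_card, ← Nat.card_eq_fintype_card]
    exact card_fixed_eq g
  simp only [h3, h2] at h1
  rw [Nat.card_eq_fintype_card, Nat.card_eq_fintype_card]
  exact (Nat.eq_of_mul_eq_mul_right Fintype.card_pos h1).symm

namespace TwoTrans

variable (h2 : TwoTrans G P)
include h2

omit [ProjectivePlane P L] [Fintype P] [Fintype L] [Acts G P L] [MulAction G L] in
theorem pt [Nontrivial P] (p q : P) : ∃ g : G, g • p = q := by
  obtain ⟨p', hp⟩ := exists_ne p
  obtain ⟨q', hq⟩ := exists_ne q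
  obtain ⟨g, hg, -⟩ := h2 p p' q q' hp.symm hq.symm
  exact ⟨g, hg⟩

theorem flag {x y : P} {l m : L} (hx : x ∈ l) (hy : y ∈ m) : ∃ g : G, g • x = y ∧ g • l = m := by
  obtain ⟨x', hx', hxx, -⟩ := exists_mem_ne l x x
  obtain ⟨y', hy', hyy, -⟩ := exists_mem_ne m y y
  obtain ⟨g, h1, h2'⟩ := h2 x x' y y' hxx.symm hyy.symm
  refine ⟨g, h1, line_eq hyy.symm ?_ ?_ hy hy'⟩
  · rw [← h1]; exact mem_smul hx
  · rw [← h2']; exact mem_smul hx'

theorem line (l m : L) : ∃ g : G, g • l = m := by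
  obtain ⟨x, hx⟩ := exists_point_mem (P := P) l
  obtain ⟨y, hy⟩ := exists_point_mem (P := P) m
  obtain ⟨g, -, hg⟩ := h2.flag hx hy
  exact ⟨g, hg⟩

theorem on_line {l : L} {x y : P} (hx : x ∈ l) (hy : y ∈ l) : ∃ g : G, g • l = l ∧ g • x = y := by
  obtain ⟨g, h1, h2'⟩ := h2.flag hx hy
  exact ⟨g, h2', h1⟩

variable [Finite G]

theorem off_lines {p : P} {l m : L} (hl : p ∉ l) (hm : p ∉ m) :
    ∃ g : G, g • p = p ∧ g • l = m := by
  classical
  set H := stabilizer G p
  by_contra hcon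
  push Not at hcon
  obtain ⟨j, hj⟩ := exists_line_mem (L := L) p
  have hH : ∀ g : H, (g : G) • p = p := fun g => g.2
  -- at most two point orbits
  obtain ⟨q, -, hqp, -⟩ := exists_mem_ne j p p
  have hle : Nat.card (orbitRel.Quotient H P) ≤ 2 := by
    refine (Nat.card_le_card_of_surjective
      (fun b : Bool => (Quotient.mk'' (if b then p else q) : orbitRel.Quotient H P)) ?_).trans (by simp)
    intro z
    induction z using Quotient.inductionOn' with
    | h r =>
      by_cases hr : r = p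
      · exact ⟨true, by simp [hr]⟩
      · obtain ⟨g, h1, h2'⟩ := h2 p q p r hqp.symm (Ne.symm hr)
        exact ⟨false, (Quotient.sound' (show r ∈ orbit H q from ⟨⟨g, h1⟩, h2'⟩)).symm⟩
  rw [card_orbits_eq (L := L) H] at hle
  -- three line orbits
  have hne : ∀ {a b : L}, (Quotient.mk'' a : orbitRel.Quotient H L) = Quotient.mk'' b →
      ∃ g : G, g • p = p ∧ g • b = a := fun h => by
    rename_i a b
    obtain ⟨g, hg⟩ : a ∈ orbit H b := Quotient.exact' h
    exact ⟨g, g.2, hg⟩
  have hinj : Function.Injective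
      (![Quotient.mk'' j, Quotient.mk'' l, Quotient.mk'' m] : Fin 3 → orbitRel.Quotient H L) := by
    intro a b hab
    fin_cases a <;> fin_cases b <;> simp at hab ⊢
    all_goals obtain ⟨g, hg1, hg2⟩ := hne hab
    · exact absurd (hg2 ▸ hj) (by rw [← hg1]; exact not_mem_smul hl)
    · exact absurd (hg2 ▸ hj) (by rw [← hg1]; exact not_mem_smul hm)
    · exact hl (hg2 ▸ mem_of_fix_point hg1 hj)
    · exact hcon g⁻¹ (inv_smul_eq_iff.2 hg1.symm) (inv_smul_eq_iff.2 hg2.symm)
    · exact hm (hg2 ▸ mem_of_fix_point hg1 hj)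
    · exact hcon g hg1 hg2
  have := (Nat.card_le_card_of_injective _ hinj).trans hle
  simp at this

theorem antiflag {p q : P} {l m : L} (hp : p ∉ l) (hq : q ∉ m) :
    ∃ g : G, g • p = q ∧ g • l = m := by
  haveI : Nontrivial P := by
    obtain ⟨a, ha⟩ := exists_point_mem (P := P) l
    exact ⟨⟨a, p, pt_ne ha hp⟩⟩
  obtain ⟨g, hg⟩ := h2.pt p q
  have hgl : q ∉ g • l := hg ▸ not_mem_smul hp
  obtain ⟨k, hk1, hk2⟩ := h2.off_lines hgl hq
  exact ⟨k * g, by rw [mul_smul, hg, hk1], by rw [mul_smul, hk2]⟩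

/-- Transitivity on flags together with a point off the line. -/
theorem triple {x y p q : P} {l m : L} (hx : x ∈ l) (hp : p ∉ l) (hy : y ∈ m) (hq : q ∉ m) :
    ∃ g : G, g • x = y ∧ g • l = m ∧ g • p = q := by
  classical
  obtain ⟨g₀, hgx, hgl⟩ := h2.flag hx hy
  set p' := g₀ • p
  have hp' : p' ∉ m := hgl ▸ not_mem_smul hp
  suffices ∃ k : G, k • y = y ∧ k • m = m ∧ k • p' = q by
    obtain ⟨k, k1, k2, k3⟩ := this
    exact ⟨k * g₀, by rw [mul_smul, hgx, k1], by rw [mul_smul, hgl, k2], by rw [mul_smul]; exact k3⟩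
  set Hm := stabilizer G m
  set Hym := stabilizer G m ⊓ stabilizer G y
  have A : Nat.card {a : P // a ∈ m} * Nat.card Hym = Nat.card Hm := by
    refine card_mul_stab Hm (S := fun a : P => a ∈ m) hy (fun g hg b hb => mem_of_fix_line hg hb)
      fun b hb => ?_
    obtain ⟨g, g1, g2⟩ := h2.on_line hy hb
    exact ⟨g, g1, g2⟩
  have B : Nat.card {a : P // a ∉ m} * Nat.card ↥(Hm ⊓ stabilizer G p') = Nat.card Hm := by
    refine card_mul_stab Hm (S := fun a : P => a ∉ m) hp' (fun g hg b hb => not_mem_of_fix_line hg hb)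
      fun b hb => ?_
    obtain ⟨g, g1, g2⟩ := h2.antiflag hp' hb
    exact ⟨g, g2, g1⟩
  have C := card_stab_mul Hym p'
  have D := card_stab_mul (Hm ⊓ stabilizer G p') y
  rw [show Hm ⊓ stabilizer G p' ⊓ stabilizer G y = Hym ⊓ stabilizer G p' by
    rw [inf_assoc, inf_comm (stabilizer G p'), ← inf_assoc]] at D
  rw [card_line] at A
  rw [card_off] at B
  set o := Nat.card (orbit Hym p')
  set N := Nat.card ↥(Hym ⊓ stabilizer G p')
  have hN : 0 < N := Nat.card_pos
  have hdvd : n ^ 2 ∣ o * (n + 1) := by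
    refine Nat.dvd_of_mul_dvd_mul_right hN ⟨Nat.card (orbit ↥(Hm ⊓ stabilizer G p') y), ?_⟩
    calc o * (n + 1) * N = (n + 1) * (o * N) := by ring
      _ = Nat.card Hm := by rw [C, A]
      _ = n ^ 2 * (Nat.card (orbit ↥(Hm ⊓ stabilizer G p') y) * N) := by rw [D, B]
      _ = n ^ 2 * N * Nat.card (orbit ↥(Hm ⊓ stabilizer G p') y) := by ring
  have hco : Nat.Coprime (n ^ 2) (n + 1) :=
    Nat.Coprime.pow_left _ (by simp)
  have ho : n ^ 2 ∣ o := hco.dvd_of_dvd_mul_right hdvd
  have hop : 0 < o := by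
    haveI : Nonempty (orbit Hym p') := ⟨⟨p', mem_orbit_self p'⟩⟩
    exact Nat.card_pos
  have hmem : ∀ b ∈ orbit Hym p', b ∉ m := by
    rintro b ⟨⟨g, hg⟩, rfl⟩
    show g • p' ∉ m
    exact not_mem_of_fix_line hg.1 hp'
  set f : orbit Hym p' → {a : P // a ∉ m} := fun b => ⟨b.1, hmem b.1 b.2⟩
  have hinj : Function.Injective f := fun a b h => Subtype.ext
    (congrArg (fun z : {a : P // a ∉ m} => z.1) h : a.1 = b.1)
  have hsur : Function.Surjective f := by
    refine ((Nat.bijective_iff_injective_and_card f).2 ⟨hinj, le_antisymm ?_ ?_⟩).2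
    · exact Nat.card_le_card_of_injective f hinj
    · rw [card_off]; exact Nat.le_of_dvd hop ho
  obtain ⟨⟨b, k, hb⟩, hbq⟩ := hsur ⟨q, hq⟩
  exact ⟨k.1, k.2.2, k.2.1, (hb : k.1 • p' = b).trans (congrArg Subtype.val hbq)⟩

/-- The stabilizer of two points is transitive on the other lines through one of them. -/
theorem pencil {p x : P} {l₁ l₂ : L} (h1 : x ∈ l₁) (h1' : p ∉ l₁) (h2' : x ∈ l₂) (h2'' : p ∉ l₂) :
    ∃ g : G, g • p = p ∧ g • x = x ∧ g • l₁ = l₂ := by
  obtain ⟨g, a, b, c⟩ := h2.triple h1 h1' h2' h2''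
  exact ⟨g, c, a, b⟩

end TwoTrans

end Plane

end Cfsg.Agent.Lie.OW
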