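import Cfsg.Agent.Lib.Lie.OstromWagner.Perspectivity

/-!
# Every line is a translation line

A two-point-transitive collineation group containing a perspectivity contains a nontrivial elation for every
flag; counting shows that the elations with a given axis form an abelian group of order `n²`.
-/

set_option autoImplicit false

namespace Cfsg.Agent.Lie.OW

open Configuration MulAction

universe u v w

variable {G : Type w} [Group G] [Finite G] {P : Type u} {L : Type v} [Membership P L] [ProjectivePlane P L]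
  [Fintype P] [Fintype L] [MulAction G P] [MulAction G L] [Acts G P L] [FaithfulSMul G P]

local notation "n" => ProjectivePlane.order P L

omit [MulAction G P] [MulAction G L] [Acts G P L] [FaithfulSMul G P] [ProjectivePlane P L] [Fintype P]
  [Fintype L] [Membership P L] in
theorem card_ne_one (H : Subgroup G) : Nat.card {g : H // g ≠ 1} = Nat.card H - 1 := by
  classical
  cases nonempty_fintype H
  rw [Nat.card_eq_fintype_card, Nat.card_eq_fintype_card, Fintype.card_subtype_compl, Fintype.card_subtype_eq]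

theorem exists_elation (h2 : TwoTrans G P) {g : G} {l : L} (hg : g ∈ Ax G (P := P) l) (hg1 : g ≠ 1) :
    ∃ e ∈ Elat G (P := P) l, e ≠ 1 := by
  classical
  by_contra hcon
  push Not at hcon
  set Γ := Ax G (P := P) l
  obtain ⟨c, hc⟩ := exists_center hg
  have hcl : c ∉ l := fun h => hg1 (hcon g ⟨hg, c, h, hc⟩)
  have hfree : ∀ e ∈ Γ, e ≠ 1 → ∃ q, q ∉ l ∧ e • q = q := fun e he he1 => by
    by_contra h
    push Not at h
    exact he1 (hcon e (mem_elat_of_free he h))
  set s := Nat.card ↥(Γ ⊓ stabilizer G c)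
  have hs : ∀ q, q ∉ l → Nat.card ↥(Γ ⊓ stabilizer G q) = s := by
    intro q hq
    obtain ⟨k, k1, k2⟩ := h2.antiflag hcl hq
    refine Eq.symm (Nat.card_congr
      { toFun := fun x => ⟨k * x.1 * k⁻¹, ?_, ?_⟩
        invFun := fun x => ⟨k⁻¹ * x.1 * k, ?_, ?_⟩
        left_inv := fun x => Subtype.ext (show k⁻¹ * (k * x.1 * k⁻¹) * k = x.1 by group)
        right_inv := fun x => Subtype.ext (show k * (k⁻¹ * x.1 * k) * k⁻¹ = x.1 by group) })
    · have := ax_conj (h := k) x.2.1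
      rwa [k2] at this
    · show (k * x.1 * k⁻¹) • q = q
      rw [mul_smul, mul_smul, inv_smul_eq_iff.2 k1.symm, x.2.2, k1]
    · have := ax_conj (h := k⁻¹) x.2.1
      rwa [inv_smul_eq_iff.2 k2.symm, inv_inv] at this
    · show (k⁻¹ * x.1 * k) • c = c
      rw [mul_smul, mul_smul, k1, x.2.2, inv_smul_eq_iff, k1]
  let f : (Σ q : {q : P // q ∉ l}, {e : ↥(Γ ⊓ stabilizer G q.1) // e ≠ 1}) → {e : Γ // e ≠ 1} :=
    fun x => ⟨⟨x.2.1.1, x.2.1.2.1⟩, fun h => x.2.2 (Subtype.ext (congrArg (fun y : Γ => (y : G)) h))⟩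
  have hf : Function.Bijective f := by
    constructor
    · rintro ⟨⟨a, ha⟩, ⟨e, he⟩, he1⟩ ⟨⟨b, hb⟩, ⟨e', he'⟩, he1'⟩ h
      obtain rfl : e = e' := congrArg Subtype.val (congrArg Subtype.val h)
      obtain rfl : a = b := by
        by_contra hab
        exact he1 (Subtype.ext (eq_one_of_two he.1 ha hb hab he.2 he'.2))
      rfl
    · rintro ⟨⟨e, he⟩, he1⟩
      obtain ⟨q, hq, hqe⟩ := hfree e he fun h => he1 (Subtype.ext h)
      exact ⟨⟨⟨q, hq⟩, ⟨e, he, hqe⟩, fun h => he1 (Subtype.ext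
        (congrArg (fun y : ↥(Γ ⊓ stabilizer G q) => (y : G)) h))⟩, rfl⟩
  have hcnt := Nat.card_congr (Equiv.ofBijective f hf)
  rw [Nat.card_sigma, Finset.sum_congr rfl fun q _ => (card_ne_one _).trans (by rw [hs q.1 q.2]),
    Finset.sum_const, Finset.card_univ, smul_eq_mul, ← Nat.card_eq_fintype_card, card_off, card_ne_one] at hcnt
  set o := Nat.card (orbit Γ c)
  have ho : o * s = Nat.card Γ := card_stab_mul Γ c
  have hod : o ∣ n ^ 2 := by
    rw [← card_off (P := P) l]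
    refine dvd_card_of_dvd_orbit Γ (fun e he b hb => not_mem_of_fix_line (ax_fix_line he) hb) fun b hb => ?_
    have := card_stab_mul Γ b
    rw [hs b hb, ← ho] at this
    exact dvd_of_eq (Nat.eq_of_mul_eq_mul_right (Nat.card_pos (α := ↥(Γ ⊓ stabilizer G c))) this).symm
  have hs2 : 2 ≤ s := by
    haveI : Nontrivial ↥(Γ ⊓ stabilizer G c) :=
      ⟨⟨⟨g, hg, cent_fix hc⟩, 1, fun h => hg1 (congrArg Subtype.val h)⟩⟩
    exact Finite.one_lt_card
  have hpos : 0 < Nat.card Γ := Nat.card_pos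
  have hn := two_le_order (P := P) (L := L)
  have heq : o * s = n ^ 2 * (s - 1) + 1 := by omega
  have ho1 : o = 1 := Nat.dvd_one.1 ((Nat.dvd_add_right (hod.mul_right _)).1 ⟨s, heq.symm⟩)
  rw [ho1, one_mul] at heq
  have : 4 * (s - 1) ≤ n ^ 2 * (s - 1) := Nat.mul_le_mul_right _ (by nlinarith)
  omega

/-- A nontrivial elation with some axis and the count of elations. -/
theorem translation (h2 : TwoTrans G P) {g₀ : G} {l₀ : L} (hg₀ : g₀ ∈ Ax G (P := P) l₀) (hg₀1 : g₀ ≠ 1) (l : L) :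
    Nat.card (Elat G (P := P) l) = n ^ 2 ∧
      (∀ u : P, u ∈ l → Nat.card ↥(Elat G (P := P) l ⊓ Cent G (L := L) u) = n) ∧
      ∀ e ∈ Elat G (P := P) l, ∀ e' ∈ Elat G (P := P) l, e * e' = e' * e := by
  classical
  obtain ⟨e₀, he₀, he₀1⟩ := exists_elation h2 hg₀ hg₀1
  obtain ⟨hA, u₀, hu₀, heu₀⟩ := id he₀
  set E := Elat G (P := P) l
  set s := Nat.card ↥(Elat G (P := P) l₀ ⊓ Cent G (L := L) u₀)
  have hs : ∀ u, u ∈ l → Nat.card ↥(E ⊓ Cent G (L := L) u) = s := by
    intro u hu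
    obtain ⟨k, k1, k2⟩ := h2.flag hu₀ hu
    refine Eq.symm (Nat.card_congr
      { toFun := fun x => ⟨k * x.1 * k⁻¹, ?_, ?_⟩
        invFun := fun x => ⟨k⁻¹ * x.1 * k, ?_, ?_⟩
        left_inv := fun x => Subtype.ext (show k⁻¹ * (k * x.1 * k⁻¹) * k = x.1 by group)
        right_inv := fun x => Subtype.ext (show k * (k⁻¹ * x.1 * k) * k⁻¹ = x.1 by group) })
    · have := elat_conj (h := k) x.2.1
      rwa [k2] at this
    · exact k1 ▸ cent_conj x.2.2
    · have := elat_conj (h := k⁻¹) x.2.1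
      rwa [inv_smul_eq_iff.2 k2.symm, inv_inv] at this
    · have := cent_conj (h := k⁻¹) x.2.2
      rwa [inv_smul_eq_iff.2 k1.symm, inv_inv] at this
  let f : (Σ z : {z : P // z ∈ l}, {g : ↥(E ⊓ Cent G (L := L) z.1) // g ≠ 1}) → {g : E // g ≠ 1} :=
    fun x => ⟨⟨x.2.1.1, x.2.1.2.1⟩, fun e => x.2.2 (Subtype.ext (congrArg (fun y : E => (y : G)) e))⟩
  have hf : Function.Bijective f := by
    constructor
    · rintro ⟨⟨a, ha⟩, ⟨g, hg⟩, hg1⟩ ⟨⟨b, hb⟩, ⟨g', hg'⟩, hg1'⟩ e
      obtain rfl : g = g' := congrArg Subtype.val (congrArg Subtype.val e)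
      obtain rfl : a = b := cent_unique hg.2 hg'.2 fun e => hg1 (Subtype.ext e)
      rfl
    · rintro ⟨⟨g, hg⟩, hg1⟩
      obtain ⟨-, z, hz, hgz⟩ := id hg
      exact ⟨⟨⟨z, hz⟩, ⟨g, hg, hgz⟩, fun e => hg1 (Subtype.ext
        (congrArg (fun y : ↥(E ⊓ Cent G (L := L) z) => (y : G)) e))⟩, rfl⟩
  have hcnt := Nat.card_congr (Equiv.ofBijective f hf)
  rw [Nat.card_sigma, Finset.sum_congr rfl fun z _ => (card_ne_one _).trans (by rw [hs z.1 z.2]),
    Finset.sum_const, Finset.card_univ, smul_eq_mul, ← Nat.card_eq_fintype_card, card_line, card_ne_one] at hcnt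
  have hs2 : 2 ≤ s := by
    haveI : Nontrivial ↥(Elat G (P := P) l₀ ⊓ Cent G (L := L) u₀) :=
      ⟨⟨⟨e₀, he₀, heu₀⟩, 1, fun e => he₀1 (congrArg Subtype.val e)⟩⟩
    exact Finite.one_lt_card
  obtain ⟨u, hu⟩ := exists_point_mem (P := P) l
  obtain ⟨t, ht0, htn, ht⟩ := elat_index_dvd (G := G) hu
  change Nat.card E = t * Nat.card ↥(E ⊓ Cent G (L := L) u) at ht
  rw [hs u hu] at ht
  have hpos : 0 < Nat.card E := Nat.card_pos
  have hn2 := two_le_order (P := P) (L := L)
  obtain ⟨s', hs'⟩ : ∃ s', s = s' + 2 := ⟨s - 2, by omega⟩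
  obtain ⟨q, hq⟩ := htn
  rw [hs', show s' + 2 - 1 = s' + 1 by omega] at hcnt
  rw [hs'] at ht
  have e1 : t * (s' + 2) = (n + 1) * (s' + 1) + 1 := by omega
  have hq1 : q = 1 := by
    rw [hq] at e1
    rcases Nat.lt_or_ge q 2 with hq2 | hq2
    · rcases Nat.eq_zero_or_pos q with h0 | h0
      · subst h0; rw [mul_zero] at hq; omega
      · omega
    · exfalso
      have : t * 2 * (s' + 1) ≤ t * q * (s' + 1) := Nat.mul_le_mul_right _ (Nat.mul_le_mul_left t hq2)
      nlinarith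
  rw [hq1, mul_one] at hq
  rw [← hq] at e1 ht
  have hsn : s = n := by
    have : n * (s' + 2) = n * (s' + 1) + n := by ring
    have : (n + 1) * (s' + 1) = n * (s' + 1) + (s' + 1) := by ring
    omega
  refine ⟨by rw [ht, ← hs', hsn, pow_two], fun z hz => (hs z hz).trans hsn, ?_⟩
  have htwo : ∀ z : P, ¬ E ≤ Cent G (L := L) z := by
    intro z hz
    obtain ⟨w, hw, hwz, -⟩ := exists_mem_ne l z z
    haveI : Nontrivial ↥(E ⊓ Cent G (L := L) w) := Finite.one_lt_card_iff_nontrivial.1 (by rw [hs w hw]; omega)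
    obtain ⟨e, he⟩ := exists_ne (1 : ↥(E ⊓ Cent G (L := L) w))
    exact hwz (cent_unique e.2.2 (hz e.2.1) fun h => he (Subtype.ext h))
  have hEne : E ≠ ⊥ := by
    intro e
    rw [e, Subgroup.card_bot] at ht
    nlinarith
  obtain ⟨r, -, -, hcomm⟩ := exists_prime_exponent (E := E) le_rfl hEne htwo
  exact hcomm

end Cfsg.Agent.Lie.OW
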